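import Cfsg.Agent.Lib.J4Cent62.Tools
import Cfsg.Agent.Lib.Induced.Burnside

/-!
Facts about an involution centraliser `C` with a known subgroup `C0` that force `C = C0`.
-/

set_option autoImplicit false

namespace Cfsg.Agent.Lib.J4Cent62

/-- `g` acts trivially on the homology of `z + 1`. -/
def Triv {Γ : Type*} [Group Γ] (V : Type*) [AddCommGroup V] [DistribMulAction Γ V] (z g : Γ) :
    Prop :=
  ∀ w : V, z • w = w → ∃ y : V, g • w = w + (z • y + y)

variable {Γ V : Type} [Group Γ] [AddCommGroup V] [Finite V] [DistribMulAction Γ V]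

/-- The vectors fixed by a subgroup. -/
def fixSub (V : Type) [AddCommGroup V] [DistribMulAction Γ V] (Q : Subgroup Γ) : AddSubgroup V where
  carrier := {v | ∀ q ∈ Q, q • v = v}
  zero_mem' q _ := smul_zero q
  add_mem' {a b} ha hb q hq := by rw [smul_add, ha q hq, hb q hq]
  neg_mem' {a} ha q hq := by rw [smul_neg, ha q hq]

/-- The facts. -/
structure Facts (z : Γ) (C C0 M N Q : Subgroup Γ) (u : V) (O : Set V) (q0 : Γ) : Prop where
  two : ∀ v : V, v + v = 0
  faith : ∀ g : Γ, (∀ v : V, g • v = v) → g = 1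
  comm : ∀ g ∈ C, g * z = z * g
  finC : Finite C
  hC0 : C0 ≤ C
  hM : M ≤ C0
  hN : N ≤ M
  hQ : Q ≤ N
  zQ : z ∈ Q
  z2 : z * z = 1
  z1 : z ≠ 1
  cardC : Nat.card C ∣ 86775571046077562880
  card0 : Nat.card C0 = 21799895040
  cardM : Nat.card M = 10899947520
  cardN : Nat.card N = 24576
  cardQ : Nat.card Q = 8192
  normM : ∀ c ∈ C0, ∀ h ∈ M, c * h * c⁻¹ ∈ M
  normN : ∀ c ∈ C0, ∀ h ∈ N, c * h * c⁻¹ ∈ N
  normQ : ∀ c ∈ C0, ∀ h ∈ Q, c * h * c⁻¹ ∈ Q
  gens : ∃ s t : Γ, s ^ 7 = 1 ∧ t ^ 7 = 1 ∧ M = Subgroup.closure {s, t} ∧ ¬ Triv V z s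
  trivQ : ∀ q ∈ Q, Triv V z q
  notN : ∃ w ∈ N, ¬ Triv V z w
  Ou : u ∈ O
  u0 : u ≠ 0
  Omem : ∀ p ∈ O, ∃ m ∈ M, p = m • u
  Ostab : ∀ c ∈ C0, ∀ p ∈ O, c • p ∈ O
  cardO : O.ncard = 77
  fixN : ∀ n ∈ N, ∀ p ∈ O, n • p = p
  ker : ∀ g ∈ C0, (∀ p ∈ O, g • p = p) → g ∈ N
  simp : ∀ H : Subgroup Γ, N ≤ H → H ≤ M → (∀ m ∈ M, ∀ h ∈ H, m * h * m⁻¹ ∈ H) → H = N ∨ H = M
  cardS : Nat.card (fixSub V Q) = 1024
  span : ∀ v ∈ fixSub V Q, v ∈ AddSubgroup.closure O
  stabU : ∀ v ∈ fixSub V Q, (∀ m ∈ M, m • u = u → m • v = v) → v = 0 ∨ v = u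
  orbits : ∀ A : Set V, A ⊆ {v | v ∈ fixSub V Q ∧ v ≠ 0} → u ∈ A →
    (∀ c ∈ C0, ∀ p ∈ A, c • p ∈ A) → A.ncard ∈ ({77, 407, 693, 1023} : Finset ℕ)
  irr : ∀ H : Subgroup Γ, H ≤ Q → z ∈ H → (∀ c ∈ C0, ∀ h ∈ H, c * h * c⁻¹ ∈ H) →
    (∀ h ∈ H, h = 1 ∨ h = z) ∨ H = Q
  qcomm : ∀ a ∈ Q, ∀ b ∈ Q, a * b * a⁻¹ * b⁻¹ = 1 ∨ a * b * a⁻¹ * b⁻¹ = z
  q0Q : q0 ∈ Q
  q0span : Q ≤ Subgroup.closure ({z} ∪ {y | ∃ m ∈ M, y = m * q0 * m⁻¹})
  qfix : ∃ T : Finset Γ, T.card < 11 ∧ ∀ y ∈ Q,
    (∀ m ∈ M, (m * q0 * m⁻¹ = q0 ∨ m * q0 * m⁻¹ = q0 * z) →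
      (m * y * m⁻¹ = y ∨ m * y * m⁻¹ = y * z)) → y ∈ T
  small : ∀ p ∈ [23, 29, 31, 37, 43], ∀ x ∈ C, orderOf x = p → {v : V | x • v = v}.ncard ≤ 16
  wide : ∃ f : Fin 32 → V, (∀ i, z • f i = f i) ∧ ∀ i j, i ≠ j → ∀ y, f i + f j ≠ z • y + y

variable {z : Γ} {C C0 M N Q : Subgroup Γ} {u : V} {O : Set V} {q0 : Γ}

omit [Finite V] in
theorem Triv.mul (two : ∀ v : V, v + v = 0) {a b : Γ} (haz : a * z = z * a) (ha : Triv V z a)
    (hb : Triv V z b) : Triv V z (a * b) := by
  intro w hw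
  obtain ⟨y, hy⟩ := hb w hw
  obtain ⟨y', hy'⟩ := ha w hw
  refine ⟨y' + a • y, ?_⟩
  rw [mul_smul, hy, smul_add, hy', smul_add, smul_add, ← mul_smul a z, haz, mul_smul]
  abel

omit [Finite V] in
theorem Triv.inv (two : ∀ v : V, v + v = 0) {a : Γ} (haz : a * z = z * a) (ha : Triv V z a) :
    Triv V z a⁻¹ := by
  intro w hw
  obtain ⟨y, hy⟩ := ha w hw
  refine ⟨a⁻¹ • y, ?_⟩
  have h := congrArg (a⁻¹ • ·) hy
  simp only [inv_smul_smul, smul_add] at h
  rw [← mul_smul a⁻¹ z, show a⁻¹ * z = z * a⁻¹ from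
    (show Commute a z from haz).inv_left.eq, mul_smul] at h
  have h2 : w + (z • a⁻¹ • y + a⁻¹ • y) = a⁻¹ • w := by
    calc w + (z • a⁻¹ • y + a⁻¹ • y)
        = a⁻¹ • w + (z • a⁻¹ • y + a⁻¹ • y) + (z • a⁻¹ • y + a⁻¹ • y) := by rw [← h]
      _ = a⁻¹ • w := by rw [add_assoc, two, add_zero]
  exact h2.symm

namespace Facts

variable (F : Facts z C C0 M N Q u O q0)
include F

/-- The elements of `C` trivial on the homology. -/
def K1 : Subgroup Γ where
  carrier := {g | g ∈ C ∧ Triv V z g}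
  one_mem' := ⟨one_mem C, fun w _ => ⟨0, by rw [one_smul, smul_zero, add_zero, add_zero]⟩⟩
  mul_mem' {a b} ha hb := ⟨mul_mem ha.1 hb.1, ha.2.mul F.two (F.comm a ha.1) hb.2⟩
  inv_mem' {a} ha := ⟨inv_mem ha.1, ha.2.inv F.two (F.comm a ha.1)⟩

theorem K1_le : F.K1 ≤ C := fun _ h => h.1

theorem K1_norm {c x : Γ} (hc : c ∈ C) (hx : x ∈ F.K1) : c * x * c⁻¹ ∈ F.K1 := by
  refine ⟨mul_mem (mul_mem hc hx.1) (inv_mem hc), fun w hw => ?_⟩
  have hw' : z • c⁻¹ • w = c⁻¹ • w := by
    rw [← mul_smul, ← F.comm _ (inv_mem hc), mul_smul, hw]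
  obtain ⟨y, hy⟩ := hx.2 _ hw'
  refine ⟨c • y, ?_⟩
  rw [mul_smul, mul_smul, hy, smul_add, smul_inv_smul, smul_add, ← mul_smul c z, F.comm c hc,
    mul_smul]

theorem QK1 : Q ≤ F.K1 := fun q hq => ⟨F.hC0 (F.hM (F.hN (F.hQ hq))), F.trivQ q hq⟩

theorem K1_C0 {x : Γ} (hx : x ∈ F.K1) (hx0 : x ∈ C0) : x ∈ Q := by
  haveI := F.finC
  haveI : Finite N := Finite.of_injective (fun a : N => (⟨a.1, F.hC0 (F.hM (F.hN a.2))⟩ : C))
    fun a b h => Subtype.ext (congrArg (fun y : C => y.1) h)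
  -- inside N
  have hNK : ∀ y ∈ F.K1, y ∈ N → y ∈ Q := by
    have hle : Q ≤ N ⊓ F.K1 := le_inf F.hQ F.QK1
    haveI : Finite ↥(N ⊓ F.K1) := Finite.of_injective (fun a => (⟨a.1, a.2.1⟩ : N))
      fun a b h => Subtype.ext (congrArg (fun y : N => y.1) h)
    obtain ⟨w, hwN, hw⟩ := F.notN
    have h1 : Nat.card ↥(N ⊓ F.K1) ≠ 24576 := by
      intro he
      have := Subgroup.eq_of_le_of_card_ge (inf_le_left : N ⊓ F.K1 ≤ N) (by rw [he, F.cardN])
      rw [← this] at hwN
      exact hw hwN.2.2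
    have h2 := Subgroup.card_dvd_of_le (inf_le_left : N ⊓ F.K1 ≤ N)
    have h3 := Subgroup.card_dvd_of_le hle
    rw [F.cardN] at h2
    rw [F.cardQ] at h3
    obtain ⟨k, hk⟩ := h3
    rw [hk, show 24576 = 8192 * 3 by norm_num] at h2
    have hk1 : k = 1 := by
      rcases (Nat.dvd_prime (by norm_num)).1 (Nat.dvd_of_mul_dvd_mul_left (by norm_num) h2) with
        h | h
      · exact h
      · exact absurd (by rw [hk, h]) h1
    have heq := Subgroup.eq_of_le_of_card_ge hle (by rw [hk, hk1, F.cardQ])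
    intro y hy hyN
    rw [heq]
    exact ⟨hyN, hy⟩
  -- inside M
  have hMK : ∀ y ∈ F.K1, y ∈ M → y ∈ N := by
    obtain ⟨s, t, hs, -, hgen, hsT⟩ := F.gens
    have hsM : s ∈ M := by rw [hgen]; exact Subgroup.subset_closure (by simp)
    let H : Subgroup Γ :=
      { carrier := {g | g ∈ M ∧ ∃ n ∈ N, n⁻¹ * g ∈ F.K1}
        one_mem' := ⟨one_mem M, 1, one_mem N, by simp⟩
        mul_mem' := by
          rintro a b ⟨ha, n, hn, ha'⟩ ⟨hb, n', hn', hb'⟩
          refine ⟨mul_mem ha hb, n * n', mul_mem hn hn', ?_⟩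
          have hc := F.hC0 (F.hM (F.hN hn'))
          have := mul_mem (F.K1_norm (inv_mem hc) ha') hb'
          rwa [inv_inv, show n'⁻¹ * (n⁻¹ * a) * n' * (n'⁻¹ * b) = (n * n')⁻¹ * (a * b) by group]
            at this
        inv_mem' := by
          rintro a ⟨ha, n, hn, ha'⟩
          refine ⟨inv_mem ha, n⁻¹, inv_mem hn, ?_⟩
          have hc := F.hC0 (F.hM (F.hN hn))
          have := F.K1_norm hc (inv_mem ha')
          rwa [show n * (n⁻¹ * a)⁻¹ * n⁻¹ = (n⁻¹)⁻¹ * a⁻¹ by group] at this }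
    have hH : H = N ∨ H = M := F.simp H (fun n hn => ⟨F.hN hn, n, hn, by simp⟩)
      (fun g hg => hg.1) (by
        rintro m hm g ⟨hg, n, hn, hg'⟩
        refine ⟨mul_mem (mul_mem hm hg) (inv_mem hm), m * n * m⁻¹, F.normN m (F.hM hm) n hn, ?_⟩
        have := F.K1_norm (F.hC0 (F.hM hm)) hg'
        rwa [show m * (n⁻¹ * g) * m⁻¹ = (m * n * m⁻¹)⁻¹ * (m * g * m⁻¹) by group] at this)
    rcases hH with h | h
    · intro y hy hyM
      have : y ∈ H := ⟨hyM, 1, one_mem N, by simpa using hy⟩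
      rwa [h] at this
    · exfalso
      obtain ⟨-, n, hn, hn'⟩ : s ∈ H := h.symm ▸ hsM
      apply hsT
      have hsC := F.hC0 (F.hM hsM)
      have hsN : ∀ j : ℕ, ∃ k ∈ F.K1, s ^ j = n ^ j * k := by
        intro j
        induction j with
        | zero => exact ⟨1, one_mem _, by simp⟩
        | succ j ih =>
          obtain ⟨k, hk, he⟩ := ih
          refine ⟨n⁻¹ * k * n * (n⁻¹ * s), mul_mem ?_ hn', ?_⟩
          · simpa using F.K1_norm (inv_mem (F.hC0 (F.hM (F.hN hn)))) hk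
          · rw [pow_succ, he, pow_succ]; group
      obtain ⟨k, hk, he⟩ := hsN 7
      rw [hs] at he
      have hn7 : n ^ 7 ∈ Q := by
        refine hNK _ ?_ (pow_mem hn 7)
        rw [eq_inv_of_mul_eq_one_left he.symm]
        exact inv_mem hk
      have hnK : n ∈ F.K1 := by
        have hord : n ^ 24576 = 1 := by
          have := pow_card_eq_one' (G := N) (x := ⟨n, hn⟩)
          rw [F.cardN] at this
          exact congrArg (fun y : N => y.1) this
        have e : n = (n ^ 7) ^ 3511 * ((n ^ 24576)⁻¹) := by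
          rw [hord, inv_one, mul_one, ← pow_mul,
            show 7 * 3511 = 24576 + 1 by norm_num, pow_succ, hord, one_mul]
        rw [e, hord, inv_one, mul_one]
        exact pow_mem (F.QK1 hn7) _
      have := mul_mem hnK hn'
      rw [mul_inv_cancel_left] at this
      exact this.2
  refine hNK x hx (F.ker x hx0 ?_)
  -- x commutes with M modulo kernel
  have hkey : ∀ m ∈ M, ∀ p ∈ O, m • x • p = x • m • p := by
    intro m hm p hp
    have h1 : m⁻¹ * x⁻¹ * m * x ∈ M := by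
      have := mul_mem (inv_mem hm) (F.normM x⁻¹ (inv_mem hx0) m hm)
      rwa [inv_inv, show m⁻¹ * (x⁻¹ * m * x) = m⁻¹ * x⁻¹ * m * x by group] at this
    have h2 : m⁻¹ * x⁻¹ * m * x ∈ F.K1 := by
      have := mul_mem (F.K1_norm (inv_mem (F.hC0 (F.hM hm))) (inv_mem hx)) hx
      rwa [inv_inv] at this
    have h3 := F.fixN _ (hMK _ h2 h1) p hp
    rw [mul_smul, mul_smul, mul_smul, inv_smul_eq_iff, inv_smul_eq_iff] at h3
    exact h3
  intro p hp
  obtain ⟨m, hm, rfl⟩ := F.Omem p hp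
  have hsq : ∀ q ∈ O, x • x • q = q := by
    intro q hq
    rw [← mul_smul]
    refine F.fixN _ (hMK _ (mul_mem hx hx) ?_) q hq
    exact mul_self_mem_of_index_two F hx0
  have hfix : ∃ q ∈ O, x • q = q := by
    by_contra hne
    push Not at hne
    haveI : Finite O := Set.toFinite O |>.to_subtype
    classical
    haveI := Fintype.ofFinite O
    let σ : O → O := fun q => ⟨x • q.1, F.Ostab x hx0 q.1 q.2⟩
    have hinv : Function.Involutive σ := fun q => Subtype.ext (hsq q.1 q.2)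
    haveI : Fact (Nat.Prime 2) := ⟨Nat.prime_two⟩
    have hp2 : (hinv.toPerm σ) ^ 2 ^ 1 = 1 := by
      ext q; rw [pow_one, sq]; exact congrArg Subtype.val (hinv q)
    have hodd : ¬ 2 ∣ Fintype.card O := by
      rw [← Nat.card_eq_fintype_card, Nat.card_coe_set_eq, F.cardO]; norm_num
    obtain ⟨q, hq⟩ := Equiv.Perm.exists_fixed_point_of_prime hodd hp2
    exact hne q.1 q.2 (congrArg Subtype.val hq)
  obtain ⟨q, hq, hqf⟩ := hfix
  obtain ⟨m', hm', rfl⟩ := F.Omem q hq
  have hu : x • u = u := by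
    have := hkey m'⁻¹ (inv_mem hm') _ hq
    rw [hqf, inv_smul_smul] at this
    exact this.symm
  rw [← hkey m hm u F.Ou, hu]
where
  mul_self_mem_of_index_two {z : Γ} {C C0 M N Q : Subgroup Γ} {u : V} {O : Set V} {q0 : Γ}
      (F : Facts z C C0 M N Q u O q0) {x : Γ} (hx0 : x ∈ C0) : x * x ∈ M := by
    have hidx : (M.subgroupOf C0).index = 2 := by
      have h := (M.subgroupOf C0).card_mul_index
      rw [Nat.card_congr (Subgroup.subgroupOfEquivOfLe F.hM).toEquiv, F.cardM, F.card0] at h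
      omega
    exact Subgroup.mul_self_mem_of_index_two hidx (⟨x, hx0⟩ : C0)

theorem Q_le_C : Q ≤ C := fun _ h => F.hC0 (F.hM (F.hN (F.hQ h)))

theorem pgroupQ : IsPGroup 2 Q := IsPGroup.of_card (n := 13) (by rw [F.cardQ]; norm_num)

theorem C0u_card : Nat.card ↥(C0 ⊓ MulAction.stabilizer Γ u) = 283115520 := by
  haveI := F.finC
  haveI : Finite C0 := Finite.of_injective (fun a : C0 => (⟨a.1, F.hC0 a.2⟩ : C))
    fun a b h => Subtype.ext (congrArg (fun y : C => y.1) h)
  have horb : MulAction.orbit C0 u = O := by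
    ext p
    refine ⟨?_, fun hp => ?_⟩
    · rintro ⟨c, rfl⟩; exact F.Ostab c.1 c.2 u F.Ou
    · obtain ⟨m, hm, rfl⟩ := F.Omem p hp
      exact ⟨⟨m, F.hM hm⟩, rfl⟩
  have h := Subgroup.card_mul_index (MulAction.stabilizer C0 u)
  rw [MulAction.index_stabilizer, horb, F.cardO, F.card0] at h
  have e : Nat.card ↥(C0 ⊓ MulAction.stabilizer Γ u) = Nat.card (MulAction.stabilizer C0 u) :=
    Nat.card_congr
      { toFun := fun x => ⟨⟨x.1, x.2.1⟩, x.2.2⟩
        invFun := fun x => ⟨x.1.1, x.1.2, x.2⟩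
        left_inv := fun x => rfl
        right_inv := fun x => rfl }
  omega

theorem not_triv_of_prime {p : ℕ} (hp : p ∈ [23, 29, 31, 37, 43]) {x : Γ} (hx : x ∈ C)
    (ho : orderOf x = p) : ¬ Triv V z x := by
  intro hT
  have hodd : Odd p := by
    fin_cases hp <;> decide
  have hxp : x ^ p = 1 := ho ▸ pow_orderOf_eq_one x
  obtain ⟨f, hf, hne⟩ := F.wide
  have hpow : ∀ i : ℕ, ∀ j, ∃ y, x ^ i • f j = f j + (z • y + y) := by
    intro i
    induction i with
    | zero => intro j; exact ⟨0, by rw [pow_zero, one_smul, smul_zero, add_zero, add_zero]⟩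
    | succ i ih =>
      intro j
      obtain ⟨y, hy⟩ := ih j
      obtain ⟨y', hy'⟩ := hT _ (hf j)
      refine ⟨y' + x • y, ?_⟩
      rw [pow_succ', mul_smul, hy, smul_add, smul_add, hy', smul_add, ← mul_smul x z, F.comm x hx,
        mul_smul]
      abel
  choose Y hY using fun i j => hpow i j
  have hsum : ∀ j, orbSum x p (f j) =
      f j + (z • (∑ i ∈ Finset.range p, Y i j) + ∑ i ∈ Finset.range p, Y i j) := by
    intro j
    rw [orbSum, Finset.sum_congr rfl fun i _ => hY i j, Finset.sum_add_distrib, Finset.sum_const,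
      Finset.card_range, odd_nsmul_eq F.two hodd, Finset.sum_add_distrib, Finset.smul_sum]
  have hinj : Function.Injective
      (fun j => (⟨orbSum x p (f j), smul_orbSum hxp _⟩ : {v : V | x • v = v})) := by
    intro i j h
    by_contra hij
    have h2 : orbSum x p (f i) = orbSum x p (f j) := congrArg Subtype.val h
    rw [hsum, hsum] at h2
    refine hne i j hij (∑ k ∈ Finset.range p, Y k i + ∑ k ∈ Finset.range p, Y k j) ?_
    rw [smul_add]
    generalize hA : z • (∑ k ∈ Finset.range p, Y k i) = A at h2 ⊢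
    generalize hA' : z • (∑ k ∈ Finset.range p, Y k j) = A' at h2 ⊢
    generalize hB : (∑ k ∈ Finset.range p, Y k i) = B at h2 ⊢
    generalize hB' : (∑ k ∈ Finset.range p, Y k j) = B' at h2 ⊢
    calc f i + f j = f i + (A + B) + f j + (A + B) := by
          rw [show f i + (A + B) + f j + (A + B) = f i + f j + ((A + B) + (A + B)) by abel, F.two,
            add_zero]
      _ = f j + (A' + B') + f j + (A + B) := by rw [h2]
      _ = A + A' + (B + B') := by
          rw [show f j + (A' + B') + f j + (A + B) = (f j + f j) + (A + A' + (B + B')) by abel,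
            F.two, zero_add]
  have h32 := Nat.card_le_card_of_injective _ hinj
  rw [Nat.card_fin, Nat.card_coe_set_eq] at h32
  have := F.small p hp x hx ho
  omega

/-- An element of order eleven centralising `M` modulo `Q`, fixing all fixed vectors of `Q`,
does not exist. -/
theorem no_eleven {x : Γ} (hx : x ∈ C) (ho : orderOf x = 11)
    (hnQ : ∀ q ∈ Q, x * q * x⁻¹ ∈ Q)
    (hm : ∀ m ∈ M, x * m * x⁻¹ * m⁻¹ ∈ Q) (hS : ∀ v ∈ fixSub V Q, x • v = v) : False := by
  haveI := F.finC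
  haveI : Finite Q := Finite.of_injective (fun a : Q => (⟨a.1, F.Q_le_C a.2⟩ : C))
    fun a b h => Subtype.ext (congrArg (fun y : C => y.1) h)
  have hxp : x ^ 11 = 1 := ho ▸ pow_orderOf_eq_one x
  have hzc : ∀ q ∈ Q, q * z = z * q := fun q hq => F.comm q (F.Q_le_C hq)
  -- conjugation inside `Q` modulo the centre
  have hQconj : ∀ a ∈ Q, ∀ b ∈ Q, a * b * a⁻¹ = b ∨ a * b * a⁻¹ = b * z := by
    intro a ha b hb
    rcases F.qcomm a ha b hb with h | h
    · exact Or.inl (mul_inv_eq_one.1 h)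
    · exact Or.inr (by rw [hzc b hb, ← h]; group)
  have hclass : ∀ {a b c : Γ}, (b = a ∨ b = a * z) → (c = b ∨ c = b * z) → (c = a ∨ c = a * z) := by
    rintro a b c (rfl | rfl) (rfl | rfl)
    · exact Or.inl rfl
    · exact Or.inr rfl
    · exact Or.inr rfl
    · exact Or.inl (by rw [mul_assoc, F.z2, mul_one])
  obtain ⟨T, hT, hTmem⟩ := F.qfix
  have hxi : ∀ i : ℕ, ∀ m ∈ M, ∃ q ∈ Q, x ^ i * m = q * m * x ^ i := by
    intro i
    induction i with
    | zero => intro m _; exact ⟨1, one_mem Q, by simp⟩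
    | succ i ih =>
      intro m hm'
      obtain ⟨q, hq, h⟩ := ih m hm'
      refine ⟨x * q * x⁻¹ * (x * m * x⁻¹ * m⁻¹), mul_mem (hnQ q hq) (hm m hm'), ?_⟩
      calc x ^ (i + 1) * m = x * (x ^ i * m) := by rw [pow_succ', mul_assoc]
        _ = x * (q * m * x ^ i) := by rw [h]
        _ = x * q * x⁻¹ * (x * m * x⁻¹ * m⁻¹) * m * x ^ (i + 1) := by rw [pow_succ']; group
  let y : ℕ → Γ := fun i => x ^ i * q0 * (x ^ i)⁻¹
  have hyQ : ∀ i, y i ∈ Q := by
    intro i
    induction i with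
    | zero => simpa [y] using F.q0Q
    | succ i ih =>
      have e : y (i + 1) = x * y i * x⁻¹ := by simp only [y, pow_succ']; group
      exact e ▸ hnQ _ ih
  have hyT : ∀ i, y i ∈ T := by
    intro i
    refine hTmem _ (hyQ i) fun m hm' hstab => ?_
    obtain ⟨q, hq, h⟩ := hxi i m hm'
    have h1 : m * y i * m⁻¹ = q⁻¹ * (x ^ i * (m * q0 * m⁻¹) * (x ^ i)⁻¹) * (q⁻¹)⁻¹ := by
      show m * (x ^ i * q0 * (x ^ i)⁻¹) * m⁻¹ = _
      have h' : m * x ^ i = q⁻¹ * (x ^ i * m) := by rw [h]; group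
      calc m * (x ^ i * q0 * (x ^ i)⁻¹) * m⁻¹ = (m * x ^ i) * q0 * (m * x ^ i)⁻¹ := by group
        _ = _ := by rw [h']; group
    have h2 : x ^ i * (m * q0 * m⁻¹) * (x ^ i)⁻¹ = y i ∨
        x ^ i * (m * q0 * m⁻¹) * (x ^ i)⁻¹ = y i * z := by
      rcases hstab with e | e
      · left; rw [e]
      · right
        rw [e]
        have hz := F.comm _ (inv_mem (pow_mem hx i))
        calc x ^ i * (q0 * z) * (x ^ i)⁻¹ = x ^ i * q0 * (z * (x ^ i)⁻¹) := by group
          _ = _ := by rw [← hz]; simp only [y, mul_assoc]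
    have h3 := hQconj q⁻¹ (inv_mem hq) (x ^ i * (m * q0 * m⁻¹) * (x ^ i)⁻¹) (by
      rcases h2 with e | e <;> rw [e]
      · exact hyQ i
      · exact mul_mem (hyQ i) F.zQ)
    rw [← h1] at h3
    exact hclass h2 h3
  have hxq : x * q0 = q0 * x := by
    have hinj : ¬ Function.Injective (fun i : Fin 11 => (⟨y i.1, hyT i.1⟩ : T)) := by
      intro hi
      have := Nat.card_le_card_of_injective _ hi
      rw [Nat.card_fin, Nat.card_eq_finsetCard] at this
      omega
    rw [Function.Injective] at hinj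
    push Not at hinj
    obtain ⟨a, b, hab, hne⟩ := hinj
    have hab' : y a.1 = y b.1 := congrArg Subtype.val hab
    wlog hlt : a.1 < b.1 generalizing a b
    · exact this b a hab.symm (Ne.symm hne) hab'.symm (by
        have : a.1 ≠ b.1 := fun h => hne (Fin.ext h)
        omega)
    have hd : x ^ (b.1 - a.1) * q0 = q0 * x ^ (b.1 - a.1) := by
      have hb : x ^ b.1 = x ^ a.1 * x ^ (b.1 - a.1) := by rw [← pow_add]; congr 1; omega
      simp only [y, hb] at hab'
      have : q0 = x ^ (b.1 - a.1) * q0 * (x ^ (b.1 - a.1))⁻¹ := by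
        calc q0 = (x ^ a.1)⁻¹ * (x ^ a.1 * q0 * (x ^ a.1)⁻¹) * x ^ a.1 := by group
          _ = _ := by rw [hab']; group
      calc x ^ (b.1 - a.1) * q0
          = x ^ (b.1 - a.1) * q0 * (x ^ (b.1 - a.1))⁻¹ * x ^ (b.1 - a.1) := by group
        _ = _ := by rw [← this]
    have hcop : (b.1 - a.1).Coprime (orderOf x) := by
      rw [ho]
      exact ((Nat.Prime.coprime_iff_not_dvd (by norm_num : Nat.Prime 11)).2
        (fun h => by have := Nat.le_of_dvd (by omega) h; omega)).symm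
    obtain ⟨k, hk⟩ := exists_pow_eq_self_of_coprime hcop
    have := (show Commute (x ^ (b.1 - a.1)) q0 from hd).pow_left k
    rw [hk] at this
    exact this
  -- all of `Q`
  have hcon : ∀ q ∈ Q, q * x = x * q := by
    have key : ∀ q ∈ Subgroup.closure ({z} ∪ {y | ∃ m ∈ M, y = m * q0 * m⁻¹}), q * x = x * q := by
      intro q hq
      induction hq using Subgroup.closure_induction with
      | mem w hw =>
        rcases hw with hw | ⟨m, hm', hw⟩
        · rw [Set.mem_singleton_iff.1 hw, F.comm x hx]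
        have hwQ : w ∈ Q := hw ▸ F.normQ m (F.hM hm') q0 F.q0Q
        obtain ⟨q', hq', h⟩ := hxi 1 m hm'
        rw [pow_one] at h
        have e : x * w * x⁻¹ = q' * w * q'⁻¹ := by
          rw [hw]
          calc x * (m * q0 * m⁻¹) * x⁻¹ = (x * m) * q0 * (x * m)⁻¹ := by group
            _ = q' * m * (x * q0 * x⁻¹) * (q' * m)⁻¹ := by rw [h]; group
            _ = _ := by rw [hxq]; group
        rcases hQconj q' hq' w hwQ with h' | h'
        · rw [h'] at e
          calc w * x = x * w * x⁻¹ * x := by rw [e]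
            _ = x * w := by group
        · exfalso
          rw [h'] at e
          have hiter : ∀ i : ℕ, x ^ i * w * (x ^ i)⁻¹ = w * z ^ i := by
            intro i
            induction i with
            | zero => simp
            | succ i ih =>
              calc x ^ (i + 1) * w * (x ^ (i + 1))⁻¹
                  = x * (x ^ i * w * (x ^ i)⁻¹) * x⁻¹ := by rw [pow_succ']; group
                _ = x * w * (z ^ i * x⁻¹) := by rw [ih]; group
                _ = x * w * (x⁻¹ * z ^ i) := by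
                  rw [((show Commute x⁻¹ z from F.comm _ (inv_mem hx)).pow_right i).eq]
                _ = (x * w * x⁻¹) * z ^ i := by group
                _ = w * z ^ (i + 1) := by rw [e, pow_succ', mul_assoc]
          have h11 := hiter 11
          rw [hxp, one_mul, inv_one, mul_one] at h11
          apply F.z1
          have : z ^ 11 = z := by
            rw [show 11 = 2 * 5 + 1 by norm_num, pow_succ, pow_mul, sq, F.z2, one_pow, one_mul]
          rw [this] at h11
          exact left_eq_mul.1 h11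
      | one => rw [one_mul, mul_one]
      | mul a b _ _ ha hb => rw [mul_assoc, hb, ← mul_assoc, ha, mul_assoc]
      | inv a _ ha => exact (show Commute a x from ha).inv_left.eq
    exact fun q hq => key q (F.q0span hq)
  have := F.faith x (fix_all_of_fix F.two F.pgroupQ (by decide : Odd 11) hxp hcon hS)
  rw [this, orderOf_one] at ho
  norm_num at ho

theorem fix_of_comm {x : Γ} (hxQ : ∀ q ∈ Q, q * x = x * q) (hMx : ∀ g ∈ M, g * x = x * g) :
    ∀ v ∈ fixSub V Q, x • v = v := by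
  have hu : u ∈ fixSub V Q := fun q hq => F.fixN q (F.hQ hq) u F.Ou
  have hxu : x • u = u := by
    have h1 : x • u ∈ fixSub V Q := fun q hq => by rw [← mul_smul, hxQ q hq, mul_smul, hu q hq]
    rcases F.stabU _ h1 (fun m hm h => by rw [← mul_smul, hMx m hm, mul_smul, h]) with h | h
    · exact absurd (by rwa [← smul_zero x, smul_left_cancel_iff] at h) F.u0
    · exact h
  intro v hv
  have hcl := F.span v hv
  clear hv
  induction hcl using AddSubgroup.closure_induction with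
  | mem p hp =>
    obtain ⟨m, hm, rfl⟩ := F.Omem p hp
    rw [← mul_smul, ← hMx m hm, mul_smul, hxu]
  | zero => exact smul_zero x
  | add a b _ _ ha hb => rw [smul_add, ha, hb]
  | neg a _ ha => rw [smul_neg, ha]

/-- The group `Q` is normal in `C`. -/
theorem normC : ∀ c ∈ C, ∀ q ∈ Q, c * q * c⁻¹ ∈ Q := by
  haveI := F.finC
  let K : Subgroup C := F.K1.subgroupOf C
  haveI hKn : K.Normal := ⟨fun k hk c => F.K1_norm c.2 hk⟩
  let Qc : Subgroup C := Q.subgroupOf C
  have cK : ∀ {H : Subgroup Γ}, H ≤ C → Nat.card (H.subgroupOf C) = Nat.card H := fun h =>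
    Nat.card_congr (Subgroup.subgroupOfEquivOfLe h).toEquiv
  have hQK : Qc ≤ K := fun q hq => F.QK1 hq
  -- the order
  obtain ⟨m, hm⟩ : 8192 ∣ Nat.card K := by
    have := Subgroup.card_dvd_of_le hQK
    rwa [cK F.Q_le_C, F.cardQ] at this
  have hinf : Nat.card ↥(K ⊓ C0.subgroupOf C) = 8192 := by
    rw [show K ⊓ C0.subgroupOf C = Qc from le_antisymm
      (fun x hx => F.K1_C0 hx.1 hx.2) (le_inf hQK fun x hx => F.hM (F.hN (F.hQ hx))),
      cK F.Q_le_C, F.cardQ]
  have hdvd := card_mul_card_dvd K (C0.subgroupOf C)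
  rw [hinf, hm, cK F.hC0, F.card0] at hdvd
  have hk : m ∣ 3980549947 := by
    have h1 : 8192 * (m * 21799895040) ∣ 8192 * 86775571046077562880 := by
      rw [← mul_assoc]
      refine hdvd.trans ?_
      rw [mul_comm 8192]
      exact Nat.mul_dvd_mul_right F.cardC _
    have h2 := Nat.dvd_of_mul_dvd_mul_left (by norm_num) h1
    rw [show 86775571046077562880 = 3980549947 * 21799895040 by norm_num] at h2
    exact Nat.dvd_of_mul_dvd_mul_right (by norm_num) h2
  have hno : ∀ p ∈ [23, 29, 31, 37, 43], ¬ p ∣ m := by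
    intro p hp hpm
    haveI : Fact p.Prime := ⟨by fin_cases hp <;> norm_num⟩
    obtain ⟨x, hx⟩ := exists_prime_orderOf_dvd_card' (G := K) p (hpm.trans (Dvd.intro_left _ hm.symm))
    refine F.not_triv_of_prime hp x.1.2 ?_ x.2.2
    rw [← hx, ← Subgroup.orderOf_coe x, ← Subgroup.orderOf_coe x.1]
  obtain ⟨e, he2, rfl⟩ : ∃ e ≤ 2, m = 11 ^ e := by
    have hc : ∀ p ∈ [23, 29, 31, 37, 43], Nat.Coprime m p := fun p hp =>
      ((Nat.Prime.coprime_iff_not_dvd (by fin_cases hp <;> norm_num)).2 (hno p hp)).symm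
    have h121 : m ∣ 11 ^ 2 := by
      rw [show 3980549947 = 11 ^ 2 * 23 * 29 * 31 * 37 * 43 by norm_num] at hk
      exact (hc 23 (by simp)).dvd_of_dvd_mul_right ((hc 29 (by simp)).dvd_of_dvd_mul_right
        ((hc 31 (by simp)).dvd_of_dvd_mul_right ((hc 37 (by simp)).dvd_of_dvd_mul_right
          ((hc 43 (by simp)).dvd_of_dvd_mul_right hk))))
    exact (Nat.dvd_prime_pow (by norm_num)).1 h121
  intro c hc q hq
  have hQn : ∀ B : Subgroup C, B = Qc → B.Normal → c * q * c⁻¹ ∈ Q := fun B hB hBn => by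
    have := hBn.conj_mem ⟨q, F.Q_le_C hq⟩ (hB ▸ hq) ⟨c, hc⟩
    rwa [hB] at this
  rcases Nat.eq_zero_or_pos e with rfl | hepos
  · exact hQn K (Subgroup.eq_of_le_of_card_ge hQK (by rw [hm, cK F.Q_le_C, F.cardQ]; norm_num)).symm
      hKn
  -- the quotient by the centre
  have hzC : z ∈ C := F.Q_le_C F.zQ
  have hzcen : (⟨z, hzC⟩ : C) ∈ Subgroup.center C :=
    Subgroup.mem_center_iff.2 fun g => Subtype.ext (F.comm g.1 g.2)
  let Z : Subgroup C := Subgroup.zpowers ⟨z, hzC⟩
  haveI hZn : Z.Normal := ⟨fun n hn g => by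
    rw [Subgroup.mem_center_iff.1 ((Subgroup.zpowers_le.2 hzcen) hn) g, mul_inv_cancel_right]
    exact hn⟩
  have hZ2 : ∀ y : C, y ∈ Z → y.1 = 1 ∨ y.1 = z := by
    intro y hy
    obtain ⟨k, hk⟩ := hy
    rcases Int.even_or_odd k with ⟨l, hl⟩ | ⟨l, hl⟩
    · left
      rw [← hk, hl]
      show z ^ (l + l) = 1
      rw [← two_mul, zpow_mul, zpow_two, F.z2, one_zpow]
    · right
      rw [← hk, hl]
      show z ^ (2 * l + 1) = z
      rw [zpow_add_one, zpow_mul, zpow_two, F.z2, one_zpow, one_mul]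
  have hcardZ : Nat.card Z = 2 := by
    rw [Nat.card_zpowers]
    exact orderOf_eq_prime (by ext; simp [sq, F.z2]) fun h => F.z1 (congrArg Subtype.val h)
  have hZK : Z ≤ K := Subgroup.zpowers_le.2 (F.QK1 F.zQ)
  let π : C →* C ⧸ Z := QuotientGroup.mk' Z
  let Kb : Subgroup (C ⧸ Z) := K.map π
  haveI hKbn : Kb.Normal := hKn.map π (QuotientGroup.mk'_surjective Z)
  haveI : Group.IsSolvable K :=
    Induced.Burnside.isSolvable_of_card_eq 2 11 13 e Nat.prime_two (by norm_num) (by rw [hm]; norm_num)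
  haveI : Group.IsSolvable Kb :=
    Group.isSolvable_of_surjective (f := π.subgroupMap K) (π.subgroupMap_surjective K)
  have hcomap : Kb.comap π = K :=
    Subgroup.comap_map_eq_self (by rw [QuotientGroup.ker_mk']; exact hZK)
  have hKb : Kb ≠ ⊥ := by
    intro h
    rw [h, MonoidHom.comap_bot, QuotientGroup.ker_mk'] at hcomap
    rw [← hcomap, hcardZ] at hm
    have : 11 ^ e ≥ 1 := Nat.one_le_pow _ _ (by norm_num)
    omega
  obtain ⟨B, ⟨hBK, hBn, hB1⟩, hBmin⟩ := exists_minimal_of_wellFoundedLT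
    (fun B : Subgroup (C ⧸ Z) => B ≤ Kb ∧ B.Normal ∧ B ≠ ⊥) ⟨Kb, le_rfl, hKbn, hKb⟩
  haveI := hBn
  haveI : Group.IsSolvable B :=
    solvable_of_solvable_injective (Subgroup.inclusion_injective hBK)
  have hab : ⁅B, B⁆ = ⊥ := by
    by_contra h
    have h2 := hBmin ⟨(Subgroup.commutator_le_left B B).trans hBK, inferInstance, h⟩
      (Subgroup.commutator_le_left B B)
    have h3 : Subgroup.map B.subtype ⁅(⊤ : Subgroup B), (⊤ : Subgroup B)⁆ = B := by
      rw [Subgroup.map_commutator, ← MonoidHom.range_eq_map, Subgroup.range_subtype]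
      exact le_antisymm (Subgroup.commutator_le_left B B) h2
    haveI : Nontrivial B := (Subgroup.nontrivial_iff_ne_bot B).2 hB1
    refine (Group.IsSolvable.commutator_lt_top_of_nontrivial B).ne ?_
    apply Subgroup.map_injective B.subtype_injective
    rw [← commutator_def] at h3
    rw [h3, ← MonoidHom.range_eq_map, Subgroup.range_subtype]
  have hBc : ∀ a ∈ B, ∀ b ∈ B, a * b = b * a := fun a ha b hb =>
    (commutatorElement_eq_one_iff_mul_comm.1
      (Subgroup.commutator_le.1 hab.le a ha b hb |> Subgroup.mem_bot.1))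
  obtain ⟨p, hp, hpB⟩ := Nat.exists_prime_and_dvd (n := Nat.card B)
    (fun h => hB1 (Subgroup.card_eq_one.1 h))
  haveI : Fact p.Prime := ⟨hp⟩
  let T : Subgroup (C ⧸ Z) :=
    { carrier := {g | g ∈ B ∧ g ^ p = 1}
      one_mem' := ⟨one_mem B, one_pow p⟩
      mul_mem' := fun {a b} ha hb => ⟨mul_mem ha.1 hb.1, by
        rw [(show Commute a b from hBc a ha.1 b hb.1).mul_pow, ha.2, hb.2, one_mul]⟩
      inv_mem' := fun {a} ha => ⟨inv_mem ha.1, by rw [inv_pow, ha.2, inv_one]⟩ }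
  have hTn : T.Normal := ⟨fun g hg c => ⟨hBn.conj_mem g hg.1 c, by rw [conj_pow, hg.2]; group⟩⟩
  have hT1 : T ≠ ⊥ := by
    obtain ⟨g, hg⟩ := exists_prime_orderOf_dvd_card' (G := B) p hpB
    intro h
    have hgT : g.1 ∈ T := ⟨g.2, by
      rw [← hg, Subgroup.orderOf_coe g |>.symm]; exact pow_orderOf_eq_one _⟩
    rw [h, Subgroup.mem_bot] at hgT
    rw [show g = 1 from Subtype.ext hgT, orderOf_one] at hg
    exact hp.one_lt.ne hg
  have hBT : B ≤ T := hBmin ⟨fun g hg => hBK hg.1, hTn, hT1⟩ (fun g hg => hg.1)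
  have hBp : IsPGroup p B := fun g => ⟨1, Subtype.ext (by
    rw [SubmonoidClass.coe_pow, pow_one]; exact (hBT g.2).2)⟩
  have hpK : p ∣ 8192 * 11 ^ e := by
    rw [← hm]
    refine hpB.trans ((Subgroup.card_dvd_of_le hBK).trans ?_)
    exact Subgroup.card_dvd_of_surjective _ (π.subgroupMap_surjective K)
  let Bp : Subgroup C := B.comap π
  have hBpK : Bp ≤ K := hcomap ▸ Subgroup.comap_mono hBK
  have hBpn : Bp.Normal := hBn.comap π
  have hp2 : p = 2 ∨ p = 11 := by
    rcases hp.dvd_mul.1 hpK with h | h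
    · left
      exact (Nat.prime_dvd_prime_iff_eq hp Nat.prime_two).1
        (hp.dvd_of_dvd_pow (show p ∣ 2 ^ 13 by simpa using h))
    · exact Or.inr ((Nat.prime_dvd_prime_iff_eq hp (by norm_num)).1 (hp.dvd_of_dvd_pow h))
  rcases hp2 with rfl | rfl
  · -- a normal two group
    have hBp2 : IsPGroup 2 Bp := hBp.comap_of_ker_isPGroup π (by
      rw [QuotientGroup.ker_mk']
      exact IsPGroup.of_card (n := 1) (by rw [hcardZ, pow_one]))
    have hQc2 : IsPGroup 2 Qc := IsPGroup.of_card (n := 13) (by rw [cK F.Q_le_C, F.cardQ]; norm_num)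
    haveI := hBpn
    obtain ⟨j, hj⟩ := IsPGroup.iff_card.1 (hBp2.to_sup_of_normal_left hQc2)
    have hd := Subgroup.card_dvd_of_le (sup_le hBpK hQK)
    rw [hj, hm] at hd
    have hj13 : j ≤ 13 := by
      have hc : Nat.Coprime (2 ^ j) (11 ^ e) := Nat.Coprime.pow _ _ (by norm_num)
      have := hc.dvd_of_dvd_mul_right hd
      exact (Nat.pow_dvd_pow_iff_le_right (by norm_num : 1 < 2)).1 (by simpa using this)
    have hle : Bp ≤ Qc := le_sup_left.trans_eq (Subgroup.eq_of_le_of_card_ge le_sup_right (by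
      rw [hj, cK F.Q_le_C, F.cardQ]
      exact (Nat.pow_le_pow_right (by norm_num) hj13).trans (by norm_num))).symm
    have hzB : (⟨z, hzC⟩ : C) ∈ Bp := by
      show π _ ∈ B
      rw [show π ⟨z, hzC⟩ = 1 from (QuotientGroup.eq_one_iff _).2 (Subgroup.mem_zpowers _)]
      exact one_mem B
    rcases F.irr (Bp.map C.subtype)
      (by rintro _ ⟨b, hb, rfl⟩; exact hle hb) ⟨_, hzB, rfl⟩
      (by
        rintro c' hc' _ ⟨b, hb, rfl⟩
        exact ⟨⟨c', F.hC0 hc'⟩ * b * ⟨c', F.hC0 hc'⟩⁻¹, hBpn.conj_mem b hb _, rfl⟩) with h | h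
    · exfalso
      apply hB1
      rw [Subgroup.eq_bot_iff_forall]
      intro g hg
      obtain ⟨g, rfl⟩ := QuotientGroup.mk'_surjective Z g
      refine (QuotientGroup.eq_one_iff g).2 ?_
      rcases h g.1 ⟨g, hg, rfl⟩ with h | h
      · rw [show g = 1 from Subtype.ext h]; exact one_mem Z
      · rw [show g = ⟨z, hzC⟩ from Subtype.ext h]; exact Subgroup.mem_zpowers _
    · refine hQn Bp (le_antisymm hle fun y hy => ?_) hBpn
      have : y.1 ∈ Bp.map C.subtype := h.symm ▸ hy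
      obtain ⟨b, hb, hby⟩ := this
      rwa [show b = y from Subtype.ext hby] at hb
  · -- a normal eleven group
    exfalso
    obtain ⟨j, hj⟩ := IsPGroup.iff_card.1 hBp
    have hcBp : Nat.card Bp = 2 * 11 ^ j := by
      let g : Bp →* B := (π.comp Bp.subtype).codRestrict B (fun x => x.2)
      have hsurj : Function.Surjective g := by
        rintro ⟨b, hb⟩
        obtain ⟨y, rfl⟩ := QuotientGroup.mk'_surjective Z b
        exact ⟨⟨y, hb⟩, rfl⟩
      have hker : Nat.card g.ker = 2 := by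
        rw [← hcardZ]
        refine Nat.card_congr
          { toFun := fun x => ⟨x.1.1, (QuotientGroup.eq_one_iff _).1 (congrArg Subtype.val x.2)⟩
            invFun := fun x => ⟨⟨x.1, ?_⟩, Subtype.ext ((QuotientGroup.eq_one_iff _).2 x.2)⟩
            left_inv := fun x => rfl
            right_inv := fun x => rfl }
        show π x.1 ∈ B
        rw [show π x.1 = 1 from (QuotientGroup.eq_one_iff _).2 x.2]
        exact one_mem B
      rw [Subgroup.card_eq_card_quotient_mul_card_subgroup g.ker,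
        Nat.card_congr (QuotientGroup.quotientKerEquivOfSurjective g hsurj).toEquiv, hker, hj,
        mul_comm]
    have hj2 : j ≤ 2 := by
      have hd := Subgroup.card_dvd_of_le hBpK
      rw [hcBp, hm] at hd
      have hc : Nat.Coprime (11 ^ j) 8192 := Nat.Coprime.pow_left _ (by norm_num)
      exact ((Nat.pow_dvd_pow_iff_le_right (by norm_num : 1 < 11)).1
        (hc.dvd_of_dvd_mul_left ((Dvd.intro_left _ rfl).trans hd))).trans he2
    have hj1 : 1 ≤ j := by
      rcases Nat.eq_zero_or_pos j with rfl | h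
      · exact absurd (Subgroup.card_eq_one.1 (by rw [hj]; rfl)) hB1
      · exact h
    obtain ⟨P0, hP0c, hP0, -⟩ := exists_char_sylow (Or.inl rfl) hcBp
    haveI := hBpn
    haveI := hP0c
    let P1 : Subgroup C := P0.map Bp.subtype
    have hP1n : P1.Normal := ConjAct.normal_of_characteristic_of_normal
    let P : Subgroup Γ := P1.map C.subtype
    have hP : Nat.card P = 11 ^ j := by
      rw [Subgroup.card_map_of_injective C.subtype_injective,
        Subgroup.card_map_of_injective Bp.subtype_injective, hP0]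
    have hPC : P ≤ C := by rintro _ ⟨a, -, rfl⟩; exact a.2
    haveI : Finite P := Finite.of_injective (fun a : P => (⟨a.1, hPC a.2⟩ : C))
      fun a b h => Subtype.ext (congrArg (fun y : C => y.1) h)
    have hPn : ∀ c' ∈ C, ∀ p ∈ P, c' * p * c'⁻¹ ∈ P := by
      rintro c' hc' _ ⟨a, ha, rfl⟩
      exact ⟨⟨c', hc'⟩ * a * ⟨c', hc'⟩⁻¹, hP1n.conj_mem a ha _, rfl⟩
    haveI : Fact (Nat.Prime 11) := ⟨by norm_num⟩
    obtain ⟨x, hx⟩ := exists_prime_orderOf_dvd_card' (G := P) 11
      (hP ▸ dvd_pow_self 11 (by omega))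
    rw [← Subgroup.orderOf_coe] at hx
    obtain ⟨s, t, hs, ht, hgen, -⟩ := F.gens
    have hMx : ∀ g ∈ M, g * x.1 = x.1 * g := by
      intro g hg
      have hsub : M ≤ Subgroup.centralizer {x.1} := by
        rw [hgen, Subgroup.closure_le]
        rintro y (rfl | rfl) <;> rw [SetLike.mem_coe, Subgroup.mem_centralizer_iff] <;>
          rintro w rfl
        · exact (comm_of_seven hs hj2 hP (fun q hq => hPn y (F.hC0 (F.hM (by
            rw [hgen]; exact Subgroup.subset_closure (by simp)))) q hq) x.2).symm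
        · exact (comm_of_seven ht hj2 hP (fun q hq => hPn y (F.hC0 (F.hM (by
            rw [hgen]; exact Subgroup.subset_closure (by simp)))) q hq) x.2).symm
      exact (Subgroup.mem_centralizer_iff.1 (hsub hg) x.1 rfl).symm
    have hxQ : ∀ q ∈ Q, q * x.1 = x.1 * q := fun q hq => hMx q (F.hN (F.hQ hq))
    refine F.no_eleven (hPC x.2) hx (fun q hq => ?_) (fun g hg => ?_)
      (F.fix_of_comm hxQ hMx)
    · rwa [← hxQ q hq, mul_inv_cancel_right]
    · rw [← hMx g hg, mul_inv_cancel_right, mul_inv_cancel]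
      exact one_mem Q

theorem S_stable {c : Γ} (hc : c ∈ C) {v : V} (hv : v ∈ fixSub V Q) : c • v ∈ fixSub V Q := by
  intro q hq
  have h := F.normC c⁻¹ (inv_mem hc) q hq
  calc q • c • v = (c * (c⁻¹ * q * c⁻¹⁻¹)) • v := by rw [← mul_smul]; group
    _ = c • v := by rw [mul_smul, hv _ h]

/-- Elements of order eleven trivial on the fixed vectors centralise `M` modulo `Q`. -/
theorem mod_comm {x : Γ} (hx : x ∈ C) (hx11 : x ^ 11 = 1)
    (hxS : ∀ v ∈ fixSub V Q, x • v = v) (hC : Nat.card C ∣ 21799895040 * 11 ^ 2) :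
    ∀ m ∈ M, x * m * x⁻¹ * m⁻¹ ∈ Q := by
  haveI := F.finC
  let D : Subgroup C :=
    { carrier := {g | ∀ v ∈ fixSub V Q, g.1 • v = v}
      one_mem' := fun v _ => one_smul Γ v
      mul_mem' := fun {a b} ha hb v hv => by
        rw [Subgroup.coe_mul, mul_smul, hb v hv, ha v hv]
      inv_mem' := fun {a} ha v hv => by
        rw [Subgroup.coe_inv, inv_smul_eq_iff, ha v hv] }
  haveI hDn : D.Normal := ⟨fun d hd c v hv => by
    rw [Subgroup.coe_mul, Subgroup.coe_mul, Subgroup.coe_inv, mul_smul, mul_smul,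
      hd _ (F.S_stable (inv_mem c.2) hv), smul_inv_smul]⟩
  have cK : ∀ {H : Subgroup Γ}, H ≤ C → Nat.card (H.subgroupOf C) = Nat.card H := fun h =>
    Nat.card_congr (Subgroup.subgroupOfEquivOfLe h).toEquiv
  have hNC : N ≤ C := fun n hn => F.hC0 (F.hM (F.hN hn))
  have hu : u ∈ fixSub V Q := fun q hq => F.fixN q (F.hQ hq) u F.Ou
  have hND : N.subgroupOf C ≤ D := by
    intro n hn v hv
    have hcl := F.span v hv
    clear hv
    induction hcl using AddSubgroup.closure_induction with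
    | mem p hp => exact F.fixN _ hn p hp
    | zero => exact smul_zero _
    | add a b _ _ ha hb => rw [smul_add, ha, hb]
    | neg a _ ha => rw [smul_neg, ha]
  have hinf : D ⊓ C0.subgroupOf C = N.subgroupOf C := by
    refine le_antisymm (fun g hg => F.ker _ hg.2 fun p hp => hg.1 _ ?_)
      (le_inf hND fun g hg => F.hM (F.hN hg))
    intro q hq
    exact F.fixN q (F.hQ hq) p hp
  have hdvd := card_mul_card_dvd D (C0.subgroupOf C)
  rw [hinf, cK hNC, cK F.hC0, F.card0, F.cardN] at hdvd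
  obtain ⟨m, hm⟩ : 24576 ∣ Nat.card D := by
    have := Subgroup.card_dvd_of_le hND
    rwa [cK hNC, F.cardN] at this
  have hm121 : m ∣ 11 ^ 2 := by
    have h1 : (24576 * 21799895040) * m ∣ (24576 * 21799895040) * 11 ^ 2 := by
      rw [mul_right_comm, ← hm]
      refine hdvd.trans ?_
      rw [mul_assoc 24576, mul_comm 24576]
      exact Nat.mul_dvd_mul_right hC _
    exact Nat.dvd_of_mul_dvd_mul_left (by norm_num) h1
  obtain ⟨i, hi, rfl⟩ := (Nat.dvd_prime_pow (by norm_num : Nat.Prime 11)).1 hm121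
  -- modulo `Q`
  let Qc : Subgroup C := Q.subgroupOf C
  haveI hQn : Qc.Normal := ⟨fun q hq c => F.normC c.1 c.2 q.1 hq⟩
  let π : C →* C ⧸ Qc := QuotientGroup.mk' Qc
  let Db : Subgroup (C ⧸ Qc) := D.map π
  haveI : Db.Normal := hDn.map π (QuotientGroup.mk'_surjective Qc)
  have hQD : Qc ≤ D := fun q hq => hND (F.hQ hq)
  have hcDb : Nat.card Db = 3 * 11 ^ i := by
    have h := Subgroup.card_eq_card_quotient_mul_card_subgroup (π.subgroupMap D).ker
    rw [Nat.card_congr (QuotientGroup.quotientKerEquivOfSurjective _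
      (π.subgroupMap_surjective D)).toEquiv, hm] at h
    have hker : Nat.card (π.subgroupMap D).ker = 8192 := by
      rw [← F.cardQ, ← cK F.Q_le_C]
      refine Nat.card_congr
        { toFun := fun x => ⟨x.1.1, (QuotientGroup.eq_one_iff _).1 (congrArg Subtype.val x.2)⟩
          invFun := fun x => ⟨⟨x.1, hQD x.2⟩,
            Subtype.ext ((QuotientGroup.eq_one_iff _).2 x.2)⟩
          left_inv := fun x => rfl
          right_inv := fun x => rfl }
    rw [hker] at h
    refine (Nat.eq_of_mul_eq_mul_right (show 0 < 8192 by norm_num) ?_).symm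
    rw [← h]
    ring
  obtain ⟨P0, hP0c, hP0, hP0x⟩ := exists_char_sylow (Or.inr rfl) hcDb
  haveI := hP0c
  let P : Subgroup (C ⧸ Qc) := P0.map Db.subtype
  have hPn : P.Normal := ConjAct.normal_of_characteristic_of_normal
  have hP : Nat.card P = 11 ^ i := by
    rw [Subgroup.card_map_of_injective Db.subtype_injective, hP0]
  have hxD : (⟨x, hx⟩ : C) ∈ D := hxS
  have hxP : π ⟨x, hx⟩ ∈ P :=
    ⟨⟨π ⟨x, hx⟩, ⟨_, hxD, rfl⟩⟩, hP0x _ (Subtype.ext (by
      rw [SubmonoidClass.coe_pow, ← map_pow, show (⟨x, hx⟩ : C) ^ 11 = 1 from Subtype.ext hx11,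
        map_one]; rfl)), rfl⟩
  obtain ⟨s, t, hs, ht, hgen, -⟩ := F.gens
  have hMC : M ≤ C := fun g hg => F.hC0 (F.hM hg)
  intro g hg
  let Y : Subgroup C := (Subgroup.centralizer {π ⟨x, hx⟩}).comap π
  have hY : M ≤ Y.map C.subtype := by
    rw [hgen, Subgroup.closure_le]
    intro y hy
    have hyC : y ∈ C := hMC (by rw [hgen]; exact Subgroup.subset_closure hy)
    have hy7 : y ^ 7 = 1 := by rcases hy with rfl | rfl <;> assumption
    refine ⟨⟨y, hyC⟩, ?_, rfl⟩
    show π ⟨y, hyC⟩ ∈ Subgroup.centralizer _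
    rw [Subgroup.mem_centralizer_iff]
    rintro w rfl
    refine (comm_of_seven ?_ hi hP (fun p hp => hPn.conj_mem p hp _) hxP).symm
    rw [← map_pow, show (⟨y, hyC⟩ : C) ^ 7 = 1 from Subtype.ext hy7, map_one]
  obtain ⟨g, hg', rfl⟩ := hY hg
  have h : π ⟨x, hx⟩ * π g = π g * π ⟨x, hx⟩ :=
    Subgroup.mem_centralizer_iff.1 (show π g ∈ Subgroup.centralizer _ from hg') _ rfl
  have h2 : π (⟨x, hx⟩ * g * ⟨x, hx⟩⁻¹ * g⁻¹) = 1 := by
    rw [map_mul, map_mul, map_mul, map_inv, map_inv, h]; group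
  exact (QuotientGroup.eq_one_iff (N := Qc) _).1 h2

/-- The fixed vectors in `fixSub V Q`. -/
theorem count_mod {p : ℕ} (hp : p.Prime) {x : Γ} (hx : x ∈ C) (ho : orderOf x = p) :
    ∃ f ≤ 10, Nat.card {v : V | v ∈ fixSub V Q ∧ x • v = v} = 2 ^ f ∧ 1024 % p = 2 ^ f % p := by
  haveI := F.finC
  haveI : Fact p.Prime := ⟨hp⟩
  let H : Subgroup Γ := Subgroup.zpowers x
  have hH : IsPGroup p H := IsPGroup.of_card (n := 1) (by rw [Nat.card_zpowers, ho, pow_one])
  haveI : Finite H := Nat.finite_of_card_ne_zero (by rw [Nat.card_zpowers, ho]; exact hp.ne_zero)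
  have hHC : H ≤ C := Subgroup.zpowers_le.2 hx
  letI : MulAction H (fixSub V Q) :=
    { smul := fun h v => ⟨h.1 • v.1, F.S_stable (hHC h.2) v.2⟩
      one_smul := fun v => Subtype.ext (one_smul Γ v.1)
      mul_smul := fun a b v => Subtype.ext (mul_smul a.1 b.1 v.1) }
  have hmod := hH.card_modEq_card_fixedPoints (α := fixSub V Q)
  let A : AddSubgroup (fixSub V Q) :=
    { carrier := {v | x • v.1 = v.1}
      zero_mem' := smul_zero x
      add_mem' := fun {a b} ha hb => by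
        show x • (a.1 + b.1) = a.1 + b.1
        rw [smul_add, show x • a.1 = a.1 from ha, show x • b.1 = b.1 from hb]
      neg_mem' := fun {a} ha => by
        show x • (-a.1) = -a.1
        rw [smul_neg, show x • a.1 = a.1 from ha] }
  have hA : Nat.card A = Nat.card (MulAction.fixedPoints H (fixSub V Q)) := by
    refine Nat.card_congr (Equiv.subtypeEquivRight fun v => ⟨fun hv => ?_, fun hv => ?_⟩)
    · rintro ⟨h, hh⟩
      apply Subtype.ext
      show h • v.1 = v.1
      obtain ⟨k, rfl⟩ := hh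
      exact MulAction.mem_stabilizer_iff.1
        (Subgroup.zpow_mem (MulAction.stabilizer Γ v.1) hv k)
    · exact congrArg Subtype.val (hv ⟨x, Subgroup.mem_zpowers x⟩)
  have hS : Nat.card A = Nat.card {v : V | v ∈ fixSub V Q ∧ x • v = v} :=
    Nat.card_congr
      { toFun := fun v => ⟨v.1.1, v.1.2, v.2⟩
        invFun := fun v => ⟨⟨v.1, v.2.1⟩, v.2.2⟩
        left_inv := fun v => rfl
        right_inv := fun v => rfl }
  obtain ⟨f, hf, hf'⟩ := (Nat.dvd_prime_pow Nat.prime_two).1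
    (show Nat.card A ∣ 2 ^ 10 by
      have := AddSubgroup.card_addSubgroup_dvd_card A
      rwa [F.cardS] at this)
  rw [← hA, hf', F.cardS] at hmod
  exact ⟨f, hf, hS ▸ hf', hmod⟩

theorem count_small {p : ℕ} (hp : p ∈ [23, 29, 31, 37, 43]) {x : Γ} (hx : x ∈ C)
    (ho : orderOf x = p) :
    ∃ f ≤ 4, Nat.card {v : V | v ∈ fixSub V Q ∧ x • v = v} = 2 ^ f ∧ 1024 % p = 2 ^ f % p := by
  obtain ⟨f, -, h1, h2⟩ := F.count_mod (by fin_cases hp <;> norm_num) hx ho
  refine ⟨f, ?_, h1, h2⟩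
  have h3 := F.small p hp x hx ho
  have h4 : Nat.card {v : V | v ∈ fixSub V Q ∧ x • v = v} ≤ {v : V | x • v = v}.ncard := by
    rw [Nat.card_coe_set_eq]
    exact Set.ncard_le_ncard (fun v hv => hv.2) (Set.toFinite _)
  by_contra hne
  have := Nat.pow_le_pow_right (show 1 ≤ 2 by norm_num) (show 5 ≤ f by omega)
  omega

theorem prime_exclude {p : ℕ} (hp : p ∈ [23, 29, 37, 43]) : ¬ p ∣ Nat.card C := by
  intro hd
  haveI := F.finC
  haveI : Fact p.Prime := ⟨by fin_cases hp <;> norm_num⟩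
  obtain ⟨x, hx⟩ := exists_prime_orderOf_dvd_card' (G := C) p hd
  rw [← Subgroup.orderOf_coe] at hx
  obtain ⟨f, hf, -, h⟩ := F.count_small (by fin_cases hp <;> simp) x.2 hx
  fin_cases hp <;> interval_cases f <;> norm_num at h

/-- The subgroup `C` is `C0`. -/
theorem C_eq : C = C0 := by
  haveI := F.finC
  refine (Subgroup.eq_of_le_of_card_ge F.hC0 ?_).symm
  rw [F.card0]
  have hu : u ∈ fixSub V Q := fun q hq => F.fixN q (F.hQ hq) u F.Ou
  -- the orbit of `u`
  let A : Set V := {p | ∃ c ∈ C, p = c • u}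
  have hA := F.orbits A (by
      rintro _ ⟨c, hc, rfl⟩
      exact ⟨F.S_stable hc hu, fun h => F.u0 (by rwa [← smul_zero c, smul_left_cancel_iff] at h)⟩)
    ⟨1, one_mem C, (one_smul Γ u).symm⟩ (by
      rintro c hc _ ⟨d, hd, rfl⟩
      exact ⟨c * d, mul_mem (F.hC0 hc) hd, (mul_smul c d u).symm⟩)
  let Cu : Subgroup Γ := C ⊓ MulAction.stabilizer Γ u
  have hcard : A.ncard * Nat.card Cu = Nat.card C := by
    have horb : MulAction.orbit C u = A := by
      ext p
      exact ⟨fun ⟨c, hc⟩ => ⟨c.1, c.2, hc.symm⟩, fun ⟨c, hc, hp⟩ => ⟨⟨c, hc⟩, hp.symm⟩⟩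
    have e : Nat.card Cu = Nat.card (MulAction.stabilizer C u) :=
      Nat.card_congr
        { toFun := fun x => ⟨⟨x.1, x.2.1⟩, x.2.2⟩
          invFun := fun x => ⟨x.1.1, x.1.2, x.2⟩
          left_inv := fun x => rfl
          right_inv := fun x => rfl }
    rw [← (MulAction.stabilizer C u).card_mul_index, MulAction.index_stabilizer, horb, e, mul_comm]
  haveI : Finite Cu := Finite.of_injective (fun a : Cu => (⟨a.1, a.2.1⟩ : C))
    fun a b h => Subtype.ext (congrArg (fun y : C => y.1) h)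
  obtain ⟨k, hk⟩ : 283115520 ∣ Nat.card Cu := by
    rw [← F.C0u_card]
    exact Subgroup.card_dvd_of_le (inf_le_inf_right _ F.hC0)
  have hdvd : A.ncard * k ∣ 77 * 3980549947 := by
    have h : 283115520 * (A.ncard * k) ∣ 283115520 * (77 * 3980549947) := by
      rw [show 283115520 * (77 * 3980549947) = 86775571046077562880 by norm_num, mul_left_comm,
        ← hk, hcard]
      exact F.cardC
    exact Nat.dvd_of_mul_dvd_mul_left (by norm_num) h
  have hA77 : A.ncard = 77 := by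
    simp only [Finset.mem_insert, Finset.mem_singleton] at hA
    rcases hA with h | h | h | h
    · exact h
    · exfalso
      exact F.prime_exclude (show (37 : ℕ) ∈ [23, 29, 37, 43] by simp)
        (hcard ▸ (show 37 ∣ A.ncard * Nat.card Cu from Dvd.dvd.mul_right (by rw [h]; norm_num) _))
    · exfalso
      have := (Dvd.intro k rfl : A.ncard ∣ A.ncard * k).trans hdvd
      rw [h] at this
      norm_num at this
    · exfalso
      have := (Dvd.intro k rfl : A.ncard ∣ A.ncard * k).trans hdvd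
      rw [h] at this
      norm_num at this
  rw [hA77] at hdvd hcard
  rw [hk] at hcard
  have hk0 := Nat.dvd_of_mul_dvd_mul_left (by norm_num) hdvd
  have hkC : k ∣ Nat.card C := ⟨77 * 283115520, by rw [← hcard]; ring⟩
  have hkCu : k ∣ Nat.card Cu := ⟨283115520, by rw [hk, mul_comm]⟩
  have h31 : ¬ 31 ∣ k := by
    intro h
    haveI : Fact (Nat.Prime 31) := ⟨by norm_num⟩
    obtain ⟨x, hx⟩ := exists_prime_orderOf_dvd_card' (G := Cu) 31 (h.trans hkCu)
    rw [← Subgroup.orderOf_coe] at hx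
    obtain ⟨f, hf, hcnt, hmod⟩ := F.count_small (by simp) x.2.1 hx
    interval_cases f <;> norm_num at hmod
    haveI : Subsingleton {v : V | v ∈ fixSub V Q ∧ x.1 • v = v} :=
      (Nat.card_eq_one_iff_unique.1 (by simpa using hcnt)).1
    exact F.u0 (congrArg Subtype.val (Subsingleton.elim
      (⟨u, hu, x.2.2⟩ : {v : V | v ∈ fixSub V Q ∧ x.1 • v = v})
      ⟨0, (fixSub V Q).zero_mem, smul_zero _⟩))
  have h121 : k ∣ 11 ^ 2 := by
    have hc : ∀ p ∈ [23, 29, 31, 37, 43], Nat.Coprime k p := by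
      intro p hp
      refine ((Nat.Prime.coprime_iff_not_dvd (by fin_cases hp <;> norm_num)).2 fun h => ?_).symm
      fin_cases hp
      · exact F.prime_exclude (show (23 : ℕ) ∈ [23, 29, 37, 43] by simp) (h.trans hkC)
      · exact F.prime_exclude (show (29 : ℕ) ∈ [23, 29, 37, 43] by simp) (h.trans hkC)
      · exact h31 h
      · exact F.prime_exclude (show (37 : ℕ) ∈ [23, 29, 37, 43] by simp) (h.trans hkC)
      · exact F.prime_exclude (show (43 : ℕ) ∈ [23, 29, 37, 43] by simp) (h.trans hkC)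
    rw [show 3980549947 = 11 ^ 2 * 23 * 29 * 31 * 37 * 43 by norm_num] at hk0
    exact (hc 23 (by simp)).dvd_of_dvd_mul_right ((hc 29 (by simp)).dvd_of_dvd_mul_right
      ((hc 31 (by simp)).dvd_of_dvd_mul_right ((hc 37 (by simp)).dvd_of_dvd_mul_right
        ((hc 43 (by simp)).dvd_of_dvd_mul_right hk0))))
  obtain ⟨e, he, rfl⟩ := (Nat.dvd_prime_pow (by norm_num : Nat.Prime 11)).1 h121
  rcases Nat.eq_zero_or_pos e with rfl | hepos
  · rw [← hcard]; norm_num
  exfalso
  haveI : Fact (Nat.Prime 11) := ⟨by norm_num⟩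
  obtain ⟨x, hx⟩ := exists_prime_orderOf_dvd_card' (G := Cu) 11
    ((dvd_pow_self 11 (by omega)).trans hkCu)
  rw [← Subgroup.orderOf_coe] at hx
  obtain ⟨f, hf, hcnt, hmod⟩ := F.count_mod (by norm_num) x.2.1 hx
  have hf10 : f = 10 ∨ f = 0 := by interval_cases f <;> norm_num at hmod <;> simp
  have hxS : ∀ v ∈ fixSub V Q, x.1 • v = v := by
    rcases hf10 with rfl | rfl
    · intro v hv
      have hsub : {v : V | v ∈ fixSub V Q ∧ x.1 • v = v} = (fixSub V Q : Set V) := by
        refine Set.eq_of_subset_of_ncard_le (fun v hv => hv.1) ?_ (Set.toFinite _)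
        rw [← Nat.card_coe_set_eq, ← Nat.card_coe_set_eq, hcnt,
          show Nat.card ((fixSub V Q : AddSubgroup V) : Set V) = 1024 from F.cardS]
        norm_num
      exact ((Set.ext_iff.1 hsub v).2 hv).2
    · exfalso
      haveI : Subsingleton {v : V | v ∈ fixSub V Q ∧ x.1 • v = v} :=
        (Nat.card_eq_one_iff_unique.1 (by simpa using hcnt)).1
      exact F.u0 (congrArg Subtype.val (Subsingleton.elim
        (⟨u, hu, x.2.2⟩ : {v : V | v ∈ fixSub V Q ∧ x.1 • v = v})
        ⟨0, (fixSub V Q).zero_mem, smul_zero _⟩))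
  refine F.no_eleven x.2.1 hx (F.normC _ x.2.1) ?_ hxS
  refine F.mod_comm x.2.1 (hx ▸ pow_orderOf_eq_one x.1) hxS ?_
  rw [← hcard, ← mul_assoc]
  exact Nat.mul_dvd_mul (by norm_num) (pow_dvd_pow 11 he)


end Facts

end Cfsg.Agent.Lib.J4Cent62
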