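import Cfsg.Agent.Lib.J4Cent62.Cert
import Cfsg.Agent.Lib.J4Rep.Main
import Cfsg.Prelude.Def_Sporadic

/-!
The matrix representation of the presented group, and membership of coded words in its image.
-/

set_option autoImplicit false
set_option exponentiation.threshold 13000

namespace Cfsg.Agent.Lib.J4Cent62

open Cfsg.Agent.Lib.J4Rep
open Cfsg.Spor Cfsg.Spor.J4
open scoped Matrix MatrixGroups

theorem hom_rel : ∀ r ∈ coxRelators edges ∪ {r | r ∈ extra}, FreeGroup.lift img r = 1 := by
  rintro r (⟨x, hx, -⟩ | hr)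
  · simp [coxNodes, edges] at hx
  · exact lift_rel hr

/-- The representation of `J4`. -/
noncomputable def hom : Cfsg.Spor.J4 →* GL112 := PresentedGroup.toGroup hom_rel

theorem hom_injective (h : Cfsg.IsJ4 Cfsg.Spor.J4) : Function.Injective hom := by
  haveI := h.1
  rw [← MonoidHom.ker_eq_bot_iff]
  refine (IsSimpleGroup.eq_bot_or_eq_top_of_normal _ inferInstance).resolve_right fun hT => ?_
  apply J4Rep.img_x_ne_one
  have hx : PresentedGroup.of Gen.x ∈ hom.ker := hT ▸ Subgroup.mem_top _
  rw [MonoidHom.mem_ker, hom, PresentedGroup.toGroup.of] at hx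
  exact hx

/-- The code of a letter. -/
def letter (c : Char) : ℕ :=
  if c = 'x' then mX else if c = 't' then mT else if c = 'y' then mY else if c = 'Y' then mYi
  else J4Rep.one

/-- The code of a word. -/
def evFirst (w : List Char) : ℕ :=
  w.foldl (fun acc c => J4Rep.mul lanesMask acc (letter c)) J4Rep.one

/-- The code of a power. -/
def powCode (A : ℕ) : ℕ → ℕ
  | 0 => J4Rep.one
  | n + 1 => J4Rep.mul lanesMask (powCode A n) A

/-- The matrix is that of the inverse of an element of the image. -/
def InR (A : ℕ) : Prop := ∃ g ∈ hom.range, ((g⁻¹ : GL112) : Mat112) = val A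

theorem inR_one : InR J4Rep.one := ⟨1, one_mem _, by rw [inv_one, Units.val_one, J4Rep.val_one]⟩

theorem InR.mul {A B : ℕ} (ha : InR A) (hb : InR B) : InR (J4Rep.mul lanesMask A B) := by
  obtain ⟨a, ha, ha'⟩ := ha
  obtain ⟨b, hb, hb'⟩ := hb
  exact ⟨b * a, mul_mem hb ha, by rw [mul_inv_rev, Units.val_mul, ha', hb', J4Rep.val_mul]⟩

theorem inR_letter (c : Char) : InR (letter c) := by
  have h : ∀ g : Gen, InR (dat (g, true)) ∧ InR (dat (g, false)) := by
    intro g
    have hg : img g ∈ hom.range := ⟨PresentedGroup.of g, PresentedGroup.toGroup.of hom_rel⟩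
    refine ⟨⟨(img g)⁻¹, inv_mem hg, ?_⟩, ⟨img g, hg, rfl⟩⟩
    rw [inv_inv]; rfl
  unfold letter
  split_ifs
  · exact (h .x).1
  · exact (h .t).1
  · exact (h .y).1
  · exact (h .y).2
  · exact inR_one

theorem inR_evFirst (w : List Char) : InR (evFirst w) := by
  have key : ∀ (w : List Char) (A : ℕ), InR A →
      InR (w.foldl (fun acc c => J4Rep.mul lanesMask acc (letter c)) A) := by
    intro w
    induction w with
    | nil => exact fun A hA => hA
    | cons c w ih => exact fun A hA => ih _ (hA.mul (inR_letter c))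
  exact key w _ inR_one

theorem InR.pow {A : ℕ} (h : InR A) : ∀ n, InR (powCode A n)
  | 0 => inR_one
  | n + 1 => (h.pow n).mul h

theorem mem_range_of {c : ℕ × ℕ} (hc : okP c = true) {A : ℕ} (hA : InR A)
    (h : Nat.beq A c.1 = true) : valP c ∈ hom.range := by
  obtain ⟨g, hg, hg'⟩ := hA
  have e : valP c = g := inv_injective (Units.ext (by
    rw [(valP_val hc).2, hg', Nat.eq_of_beq_eq_true h]))
  rwa [e]

end Cfsg.Agent.Lib.J4Cent62
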