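import Cfsg.Agent.Lib.J4Cent62.FactsGroup
import Cfsg.Agent.Lib.J4Cent62.Check.Samples

/-!
Elements of large prime order have small fixed spaces.
-/

set_option autoImplicit false
set_option maxRecDepth 100000
set_option exponentiation.threshold 13000

namespace Cfsg.Agent.Lib.J4Cent62

open Cfsg.Agent.Lib.Computation
open scoped Matrix MatrixGroups Pointwise

attribute [local irreducible] J4Rep.mul vm powCode evFirst sameB fixCert

theorem card_range (h : Cfsg.IsJ4 Cfsg.Spor.J4) : Nat.card hom.range = 86775571046077562880 := by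
  rw [← Nat.card_congr (MonoidHom.ofInjective (hom_injective h)).toEquiv]
  exact h.2

theorem finite_range (h : Cfsg.IsJ4 Cfsg.Spor.J4) : Finite hom.range :=
  Nat.finite_of_card_ne_zero (by rw [card_range h]; norm_num)

/-- The data of a sample element. -/
structure Sample (p : ℕ) : Prop where
  sample : ∃ (x : ℕ × ℕ) (A P R : ℕ), okP x = true ∧ valP x ∈ hom.range ∧ valP x ^ p = 1 ∧
    valP x ≠ 1 ∧ fixCert [x.1] [A] P R 4 = true

theorem sample_of {p : ℕ} {x : ℕ × ℕ} {w : List Char} {k A P R : ℕ}
    (h : (okP x && Nat.beq (powCode (evFirst w) k) x.1 && Nat.beq (powCode x.1 p) J4Rep.one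
      && !(sameB x.1 J4Rep.one) && fixCert [x.1] [A] P R 4) = true) : Sample p := by
  simp only [Bool.and_eq_true, Bool.not_eq_true'] at h
  obtain ⟨⟨⟨⟨h1, h2⟩, h3⟩, h4⟩, h5⟩ := h
  refine ⟨x, A, P, R, h1, mem_range_of h1 (InR.pow (inR_evFirst w) k) h2, pow_eq_one h1 h3,
    ne_one_of h1 fun e => ?_, h5⟩
  rw [sameB_iff.2 (e.trans J4Rep.val_one.symm)] at h4
  exact Bool.noConfusion h4

theorem samples : ∀ p ∈ [23, 29, 31, 37, 43], Sample p := by
  intro p hp
  simp only [List.mem_cons, List.not_mem_nil, or_false] at hp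
  rcases hp with rfl | rfl | rfl | rfl | rfl
  · exact sample_of x23_ok
  · exact sample_of x29_ok
  · exact sample_of x31_ok
  · exact sample_of x37_ok
  · exact sample_of x43_ok

theorem sample_fix {p : ℕ} {g : GL112} (hp : p.Prime) (h : Cfsg.IsJ4 Cfsg.Spor.J4)
    (hp2 : ¬ p ^ 2 ∣ 86775571046077562880) (hpd : p ∣ 86775571046077562880) (hs : Sample p)
    (hg : g ∈ hom.range) (ho : orderOf g = p) : {v : Row | g • v = v}.ncard ≤ 16 := by
  haveI := finite_range h
  haveI : Fact p.Prime := ⟨hp⟩
  obtain ⟨x, A, P, R, hok, hxR, hxp, hx1, hcert⟩ := hs.sample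
  have hfac : (Nat.card hom.range).factorization p = 1 := by
    rw [card_range h]
    have h1 := hp.pow_dvd_iff_le_factorization (show 86775571046077562880 ≠ 0 by norm_num)
      (k := 2)
    have h2 := hp.factorization_pos_of_dvd (show 86775571046077562880 ≠ 0 by norm_num) hpd
    by_contra hne
    exact hp2 (h1.2 (by omega))
  let a : hom.range := ⟨valP x, hxR⟩
  let b : hom.range := ⟨g, hg⟩
  have ha : orderOf a = p :=
    orderOf_eq_prime (Subtype.ext hxp) fun e => hx1 (congrArg Subtype.val e)
  have hb : orderOf b = p := by rw [← ho, ← Subgroup.orderOf_coe b]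
  have hcard : ∀ c : hom.range, orderOf c = p →
      Nat.card (Subgroup.zpowers c) = p ^ (Nat.card hom.range).factorization p := fun c hc => by
    rw [Nat.card_zpowers, hc, hfac, pow_one]
  obtain ⟨t, ht⟩ := MulAction.exists_smul_eq hom.range
    (Sylow.ofCard _ (hcard b hb)) (Sylow.ofCard _ (hcard a ha))
  have hmem : a ∈ MulAut.conj t • Subgroup.zpowers b := by
    have := congrArg Sylow.toSubgroup ht
    rw [Sylow.coe_subgroup_smul] at this
    change MulAut.conj t • Subgroup.zpowers b = Subgroup.zpowers a at this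
    rw [this]
    exact Subgroup.mem_zpowers a
  obtain ⟨y, hy, hya⟩ := hmem
  obtain ⟨k, hk⟩ := hy
  have he : valP x = t.1 * g ^ k * t.1⁻¹ := by
    have := congrArg Subtype.val hya
    rw [← hk] at this
    exact this.symm
  have hbound : ∀ v : Row, valP x • v = v → ∃ i < 16, v = pt (vm i R) := by
    intro v hv
    refine of_fixCert (d := 4) hcert fun c hc => ?_
    rw [List.mem_singleton.1 hc, ← valP_smul hok, hv]
  refine (Set.ncard_le_ncard_of_injOn (fun v => t.1 • v) (t := {v | valP x • v = v})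
    (fun v hv => ?_) (fun v _ w _ h => smul_left_cancel t.1 h) (Set.toFinite _)).trans ?_
  · show valP x • t.1 • v = t.1 • v
    have hv' : g ^ k • v = v :=
      MulAction.mem_stabilizer_iff.1 (Subgroup.zpow_mem (MulAction.stabilizer GL112 v) hv k)
    rw [he, mul_smul, mul_smul, inv_smul_smul, hv']
  · have hsub : {v : Row | valP x • v = v} ⊆ (fun i => pt (vm i R)) '' Set.Iio 16 := fun v hv => by
      obtain ⟨i, hi, rfl⟩ := hbound v hv
      exact ⟨i, hi, rfl⟩
    refine (Set.ncard_le_ncard hsub (Set.toFinite _)).trans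
      ((Set.ncard_image_le (Set.toFinite _)).trans ?_)
    rw [← Finset.coe_Iio, Set.ncard_coe_finset, Nat.card_Iio]

theorem small (h : Cfsg.IsJ4 Cfsg.Spor.J4) :
    ∀ p ∈ [23, 29, 31, 37, 43], ∀ g ∈ gC, orderOf g = p → {v : Row | g • v = v}.ncard ≤ 16 := by
  intro p hp g hg ho
  have hs := samples p hp
  simp only [List.mem_cons, List.not_mem_nil, or_false] at hp
  rcases hp with rfl | rfl | rfl | rfl | rfl <;>
    exact sample_fix (by norm_num) h (by norm_num) (by norm_num) hs hg.1 ho

end Cfsg.Agent.Lib.J4Cent62
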