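import Cfsg.Agent.Lib.J4Cent62.FactsFix
import Cfsg.Agent.Lib.J4Cent62.Small

/-!
The facts about the involution centraliser, and the equality `C = C0`.
-/

set_option autoImplicit false
set_option maxRecDepth 100000
set_option exponentiation.threshold 13000

namespace Cfsg.Agent.Lib.J4Cent62

open Cfsg.Agent.Lib.Computation
open scoped Matrix MatrixGroups

attribute [local irreducible] J4Rep.mul vm powCode evFirst sameB trivCert killCert

theorem gens_fact : ∃ s t : GL112, s ^ 7 = 1 ∧ t ^ 7 = 1 ∧ gM = Subgroup.closure {s, t} ∧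
    ¬ Triv Row vz s := by
  have h := seven_gens
  simp only [Bool.and_eq_true] at h
  have hn := sa_nontriv
  simp only [Bool.and_eq_true] at hn
  exact ⟨valP sa, valP sb, pow_eq_one oks.1 h.1.1.1, pow_eq_one oks.2.1 h.1.1.2, gM_eq,
    not_triv_of_cert ok_ez oks.1 hn.1.1 hn.1.2 hn.2⟩

theorem notN : ∃ w ∈ gN, ¬ Triv Row vz w := by
  have hn := ew_nontriv
  simp only [Bool.and_eq_true] at hn
  obtain ⟨⟨⟨⟨hok, hk⟩, hw⟩, hl⟩, hs⟩ := hn
  exact ⟨valP ew, mem_of_sift cm7_ok hok hs, not_triv_of_cert ok_ez hok hk hw hl⟩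

theorem wide : ∃ f : Fin 32 → Row, (∀ i, vz • f i = f i) ∧
    ∀ i j, i ≠ j → ∀ y, f i + f j ≠ vz • y + y := by
  have h := wide_ok
  simp only [Bool.and_eq_true, List.all_eq_true] at h
  obtain ⟨hk, h⟩ := h
  refine ⟨fun i => pt (vm i.1 wideRows), fun i => ?_, fun i j hij y he => ?_⟩
  · exact fixed_of_vm ok_ez (h i.1 (List.mem_range.2 i.2)).1
  · have h2 := congrArg (fun v => times v (J4Rep.val wideL)) he
    rw [times_add, ← pt_vm, ← pt_vm, kill_of_cert ok_ez hk,
      Nat.eq_of_beq_eq_true (h i.1 (List.mem_range.2 i.2)).2,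
      Nat.eq_of_beq_eq_true (h j.1 (List.mem_range.2 j.2)).2, ← pt_xor, ← pt_zero] at h2
    apply hij
    have e := pt_injective (Nat.xor_lt_two_pow (i.2.trans (by norm_num)) (j.2.trans (by norm_num)))
      (Nat.two_pow_pos 112) h2
    exact Fin.ext (Nat.xor_eq_zero_iff.1 e)

theorem vz_ne : vz ≠ 1 := by
  have h := seven_gens
  simp only [Bool.and_eq_true, Bool.not_eq_true'] at h
  refine ne_one_of ok_ez fun e => ?_
  rw [sameB_iff.2 (e.trans J4Rep.val_one.symm)] at h
  exact Bool.noConfusion h.2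

theorem normN : ∀ c ∈ gC0, ∀ n ∈ gN, c * n * c⁻¹ ∈ gN := by
  intro c hc n hn
  refine ker _ (gM_le (normM c hc n (gN_le hn))) fun p hp => ?_
  rw [mul_smul, mul_smul, fixN n hn _ (Ostab _ (inv_mem hc) p hp), smul_inv_smul]

theorem facts (h : Cfsg.IsJ4 Cfsg.Spor.J4) : Facts vz gC gC0 gM gN gQ vu gO vq0 where
  two := row_two
  faith := fun g hg => faithful hg
  comm g hg := (Subgroup.mem_centralizer_iff.1 hg.2 vz rfl).symm
  finC := by
    haveI := finite_range h
    exact Finite.of_injective (fun a : gC => (⟨a.1, a.2.1⟩ : hom.range))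
      fun a b e => Subtype.ext (congrArg (fun y : hom.range => y.1) e)
  hC0 := C0_le
  hM := gM_le
  hN := gN_le
  hQ := gQ_le
  zQ := vz_mem
  z2 := vz_sq
  z1 := vz_ne
  cardC := card_range h ▸ Subgroup.card_dvd_of_le (inf_le_left : gC ≤ hom.range)
  card0 := card_C0
  cardM := card_gM
  cardN := card_gN
  cardQ := card_gQ
  normM := normM
  normN := normN
  normQ := normQ
  gens := gens_fact
  trivQ := trivQ
  notN := notN
  Ou := by
    have := M_smul (one_mem gM)
    rwa [one_smul] at this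
  u0 := u_zero
  Omem := Omem
  Ostab := Ostab
  cardO := cardO
  fixN := fixN
  ker := ker
  simp := simp_MN
  cardS := cardS
  span := span
  stabU := stabU
  orbits := orbits
  irr := irr
  qcomm := qcomm
  q0Q := qP_mem _
  q0span := q0span
  qfix := qfix
  small := small h
  wide := wide

theorem gC_eq (h : Cfsg.IsJ4 Cfsg.Spor.J4) : gC = gC0 := (facts h).C_eq

end Cfsg.Agent.Lib.J4Cent62
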