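import Cfsg.Agent.Lib.J4Cent62.Mat
import Cfsg.Agent.Lib.J4Cent62.Abstract

/-!
Boolean certificates about coded matrices and their meaning for the action on row vectors.
-/

set_option autoImplicit false
set_option exponentiation.threshold 13000

namespace Cfsg.Agent.Lib.J4Cent62

open Cfsg.Agent.Lib.J4Rep
open Cfsg.Agent.Lib.Computation
open scoped Matrix MatrixGroups

/-- The group of invertible matrices. -/
abbrev GL112 : Type := GL (Fin 112) (ZMod 2)

instance : DistribMulAction GL112 Row where
  smul_zero _ := zero_times _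
  smul_add _ v w := times_add v w _

theorem row_two (v : Row) : v + v = 0 := funext fun j => ZModModule.add_self (v j)

theorem times_ext {A B : Mat112} (h : ∀ v : Row, times v A = times v B) : A = B := by
  ext i j
  have := congrFun (h (fun k => if k = i then 1 else 0)) j
  simpa [times, Matrix.vecMul, dotProduct] using this

theorem faithful {g : GL112} (h : ∀ v : Row, g • v = v) : g = 1 := by
  have e : ((g⁻¹ : GL112) : Mat112) = 1 := times_ext fun v => by rw [times_one]; exact h v
  exact inv_eq_one.1 (Units.ext (e.trans Units.val_one.symm))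

theorem valP_smul {c : ℕ × ℕ} (hc : okP c = true) (v : Row) :
    valP c • v = times v (val c.1) := by
  rw [smul_eq, (valP_val hc).2]

theorem valP_ext {a b : ℕ × ℕ} (ha : okP a = true) (hb : okP b = true) (h : a.1 = b.1) :
    valP a = valP b :=
  inv_injective (Units.ext (by rw [(valP_val ha).2, (valP_val hb).2, h]))

theorem valP_mul {a b : ℕ × ℕ} (ha : okP a = true) (hb : okP b = true) :
    valP (mulP a b) = valP a * valP b :=
  Units.ext (by
    rw [(valP_val (okP_mul ha hb)).1, Units.val_mul, (valP_val ha).1, (valP_val hb).1, mulP,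
      J4Rep.val_mul])

/-- The inverse pair. -/
def swapP (c : ℕ × ℕ) : ℕ × ℕ := (c.2, c.1)

theorem okP_swap {c : ℕ × ℕ} (h : okP c = true) : okP (swapP c) = true :=
  okP_iff.2 (And.symm (okP_iff.1 h))

theorem valP_swap {c : ℕ × ℕ} (h : okP c = true) : valP (swapP c) = (valP c)⁻¹ :=
  Units.ext (by rw [(valP_val (okP_swap h)).1, (valP_val h).2]; rfl)

theorem pt_xor (a b : ℕ) : pt (a ^^^ b) = pt a + pt b :=
  funext fun j => by show bit _ = bit _ + bit _; rw [Nat.testBit_xor, bit_xor]

theorem pt_zero : pt 0 = 0 := funext fun j => by show bit _ = 0; rw [Nat.zero_testBit]; rfl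

theorem val_xor (A B : ℕ) : val (A ^^^ B) = val A + val B := by
  ext i j
  show bit _ = bit _ + bit _
  rw [testBit_lane, testBit_lane, testBit_lane, Nat.testBit_xor, ← bit_xor]
  cases decide (j.1 < 112) <;> simp

theorem val_zero : val 0 = 0 := by
  ext i j
  show bit _ = 0
  rw [testBit_lane, Nat.zero_testBit, Bool.and_false]; rfl

/-- The code of the matrix plus one. -/
def plusOne (A : ℕ) : ℕ := Nat.xor A J4Rep.one

theorem times_plusOne (v : Row) (A : ℕ) : times v (val (plusOne A)) = times v (val A) + v := by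
  rw [show plusOne A = A ^^^ J4Rep.one from rfl, val_xor, J4Rep.val_one, add_times, times_one]

/-- All lanes are below a power of two. -/
def lanesBelow (d P : ℕ) : Bool := (List.range 112).all fun i => Nat.blt (lane P i) (2 ^ d)

theorem vm_lt_of_lanes {d : ℕ} {P : ℕ} (hd : d ≤ 112) (h : lanesBelow d P = true) (x : ℕ) :
    vm x P < 2 ^ d := by
  simp only [lanesBelow, List.all_eq_true, List.mem_range, Nat.blt, Nat.ble_eq] at h
  have key : ∀ n ≤ 112, mulAux (ones 1) P x n < 2 ^ d := by
    intro n
    induction n with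
    | zero => intro _; exact Nat.two_pow_pos d
    | succ n ih =>
      intro hn
      refine Nat.xor_lt_two_pow (ih (by omega)) ?_
      show Nat.land (x >>> n) (ones 1) * lane P n < 2 ^ d
      rw [show ones 1 = 2 ^ 1 - 1 by rfl,
        show Nat.land (x >>> n) (2 ^ 1 - 1) = (x >>> n) % 2 ^ 1 from
          Nat.and_two_pow_sub_one_eq_mod _ 1, pow_one]
      rcases Nat.mod_two_eq_zero_or_one (x >>> n) with e | e <;> rw [e]
      · rw [Nat.zero_mul]; exact Nat.two_pow_pos d
      · rw [Nat.one_mul]; exact h n (by omega)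
  exact key 112 le_rfl

/-- The combinations of coded rows lie in every subgroup containing the rows. -/
theorem pt_vm_mem {R k : ℕ} (S : AddSubgroup Row)
    (h : ∀ i < 112, k.testBit i = true → pt (lane R i) ∈ S) : pt (vm k R) ∈ S := by
  have key : ∀ n ≤ 112, pt (mulAux (ones 1) R k n) ∈ S := by
    intro n
    induction n with
    | zero => intro _; show pt 0 ∈ S; rw [pt_zero]; exact S.zero_mem
    | succ n ih =>
      intro hn
      show pt (mulAux (ones 1) R k n ^^^ Nat.land (k >>> n) (ones 1) * lane R n) ∈ S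
      rw [pt_xor]
      refine S.add_mem (ih (by omega)) ?_
      rw [show ones 1 = 2 ^ 1 - 1 by rfl,
        show Nat.land (k >>> n) (2 ^ 1 - 1) = (k >>> n) % 2 ^ 1 from
          Nat.and_two_pow_sub_one_eq_mod _ 1, pow_one, Nat.shiftRight_eq_div_pow,
        ← Nat.toNat_testBit]
      cases hb : k.testBit n with
      | false => rw [Bool.toNat_false, Nat.zero_mul, pt_zero]; exact S.zero_mem
      | true => rw [Bool.toNat_true, Nat.one_mul]; exact h n (by omega) hb
  exact key 112 le_rfl

/-- The code of `Σ (g + 1) A` over a list. -/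
def fixSum : List (ℕ × ℕ) → ℕ
  | [] => 0
  | (g, A) :: l => Nat.xor (J4Rep.mul lanesMask (plusOne g) A) (fixSum l)

/-- The identity is `Σ (g + 1) A + P R`, where the products with `P` have at most `d` bits. -/
def fixCert (gens As : List ℕ) (P R d : ℕ) : Bool :=
  lanesBelow d P && Nat.beq gens.length As.length && Nat.ble d 112 &&
    sameB (Nat.xor (fixSum (gens.zip As)) (J4Rep.mul lanesMask P R)) J4Rep.one

theorem of_fixCert {gens As : List ℕ} {P R d : ℕ} (h : fixCert gens As P R d = true) {v : Row}
    (hv : ∀ g ∈ gens, times v (val g) = v) : ∃ k < 2 ^ d, v = pt (vm k R) := by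
  simp only [fixCert, Bool.and_eq_true] at h
  obtain ⟨⟨⟨h1, -⟩, h3⟩, h4⟩ := h
  have h0 : ∀ l : List (ℕ × ℕ), (∀ p ∈ l, times v (val p.1) = v) →
      times v (val (fixSum l)) = 0 := by
    intro l
    induction l with
    | nil => intro _; rw [fixSum, val_zero, times_zero]
    | cons p l ih =>
      obtain ⟨g, A⟩ := p
      intro hl
      show times v (val (J4Rep.mul lanesMask (plusOne g) A ^^^ fixSum l)) = 0
      rw [val_xor, add_times, ih (fun q hq => hl q (List.mem_cons_of_mem _ hq)), J4Rep.val_mul,
        times_mul, times_plusOne, hl (g, A) List.mem_cons_self, row_two, zero_times, add_zero]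
  obtain ⟨x, -, rfl⟩ := exists_pt v
  refine ⟨vm x P, vm_lt_of_lanes (Nat.le_of_ble_eq_true h3) h1 x, ?_⟩
  have h5 := congrArg (times (pt x)) (sameB_iff.1 h4)
  rw [show ∀ a b, Nat.xor a b = a ^^^ b from fun _ _ => rfl, val_xor, add_times,
    h0 _ (fun p hp => hv p.1 (List.of_mem_zip hp).1), zero_add, J4Rep.val_one, times_one,
    J4Rep.val_mul, times_mul] at h5
  rw [pt_vm, pt_vm, h5]

/-- `g + 1 = (z + 1) A + B (z + 1)`. -/
def trivCert (z g A B : ℕ) : Bool :=
  sameB (plusOne g) (Nat.xor (J4Rep.mul lanesMask (plusOne z) A) (J4Rep.mul lanesMask B (plusOne z)))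

theorem triv_of_cert {z c : ℕ × ℕ} {A B : ℕ} (hz : okP z = true) (hc : okP c = true)
    (h : trivCert z.1 c.1 A B = true) : Triv Row (valP z) (valP c) := by
  intro w hw
  rw [valP_smul hz] at hw
  refine ⟨times w (val B), ?_⟩
  have h1 := congrArg (times w) (sameB_iff.1 h)
  rw [show ∀ a b, Nat.xor a b = a ^^^ b from fun _ _ => rfl, val_xor, add_times, J4Rep.val_mul,
    J4Rep.val_mul, times_mul, times_mul, times_plusOne, times_plusOne, hw, row_two, zero_times,
    zero_add, times_plusOne] at h1
  rw [valP_smul hc, valP_smul hz, ← h1, add_comm (times w _) w, ← add_assoc, row_two, zero_add]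

/-- `w` is fixed by `z` and `L` kills the image of `z + 1`. -/
def killCert (z L : ℕ) : Bool := sameB (J4Rep.mul lanesMask (plusOne z) L) 0

theorem kill_of_cert {z : ℕ × ℕ} {L : ℕ} (hz : okP z = true) (h : killCert z.1 L = true) (y : Row) :
    times (valP z • y + y) (val L) = 0 := by
  rw [valP_smul hz, ← times_plusOne, ← times_mul, ← J4Rep.val_mul, sameB_iff.1 h, val_zero,
    times_zero]

theorem fixed_of_vm {c : ℕ × ℕ} (hc : okP c = true) {x : ℕ} (h : Nat.beq (vm x c.1) x = true) :
    valP c • pt x = pt x := by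
  rw [valP_smul hc, ← pt_vm, Nat.eq_of_beq_eq_true h]

theorem not_triv_of_cert {z c : ℕ × ℕ} {L w : ℕ} (hz : okP z = true) (hc : okP c = true)
    (hk : killCert z.1 L = true) (hw : Nat.beq (vm w z.1) w = true)
    (hn : Nat.beq (vm (Nat.xor (vm w c.1) w) L) 1 = true) : ¬ Triv Row (valP z) (valP c) := by
  intro hT
  obtain ⟨y, hy⟩ := hT _ (fixed_of_vm hz hw)
  have h1 : pt (Nat.xor (vm w c.1) w) = valP z • y + y := by
    show pt (vm w c.1 ^^^ w) = _
    rw [pt_xor, pt_vm, ← valP_smul hc, hy, add_comm (pt w), add_assoc, row_two, add_zero]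
  have h2 := congrArg (fun v => times v (val L)) h1

  rw [← pt_vm, Nat.eq_of_beq_eq_true hn, kill_of_cert hz hk, ← pt_zero] at h2
  exact absurd (pt_injective (by norm_num) (by norm_num) h2) (by norm_num)

end Cfsg.Agent.Lib.J4Cent62
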