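import Mathlib

/-!
Normal forms in a group which is elementary abelian modulo a central involution.
-/

set_option autoImplicit false

namespace Cfsg.Agent.Lib.J4Cent62

/-- The coordinates of a linear map, applied to a vector of bits. -/
def ap : List ℕ → ℕ → ℕ
  | [], _ => 0
  | r :: l, c => Nat.xor (bif Nat.testBit c 0 then r else 0) (ap l (c / 2))

/-- Decoded word in base `b`. -/
def decode (b : ℕ) : ℕ → ℕ → List ℕ
  | 0, _ => []
  | f + 1, n => bif Nat.beq n 0 then [] else (n % b - 1) :: decode b f (n / b)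

/-- Apply a word of linear maps. -/
def apWord (T : List (List ℕ)) : List ℕ → ℕ → ℕ
  | [], c => c
  | j :: w, c => apWord T w (ap (T.getD j []) c)

variable {G : Type*} [Group G]

/-- The product of the elements selected by the bits. -/
def prodQ : List G → ℕ → G
  | [], _ => 1
  | q :: l, c => (bif Nat.testBit c 0 then q else 1) * prodQ l (c / 2)

/-- Equality modulo `z`. -/
def RelZ (z y a : G) : Prop := y = a ∨ y = a * z

namespace RelZ

variable {z a b c a' b' : G}

theorem refl (a : G) : RelZ z a a := Or.inl rfl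

theorem symm (hz : z * z = 1) (h : RelZ z a b) : RelZ z b a := by
  rcases h with h | h
  · exact Or.inl h.symm
  · exact Or.inr (by rw [h, mul_assoc, hz, mul_one])

theorem trans (hz : z * z = 1) (h : RelZ z a b) (h' : RelZ z b c) : RelZ z a c := by
  rcases h with rfl | rfl <;> rcases h' with rfl | rfl
  · exact Or.inl rfl
  · exact Or.inr rfl
  · exact Or.inr rfl
  · exact Or.inl (by rw [mul_assoc, hz, mul_one])

theorem mul (hz : z * z = 1) (hc : z * b' = b' * z) (h : RelZ z a a') (h' : RelZ z b b') :
    RelZ z (a * b) (a' * b') := by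
  rcases h with rfl | rfl <;> rcases h' with rfl | rfl
  · exact Or.inl rfl
  · exact Or.inr (by rw [mul_assoc])
  · exact Or.inr (by rw [mul_assoc, hc, mul_assoc])
  · exact Or.inl (by rw [mul_assoc, ← mul_assoc z b', hc, mul_assoc b', hz, mul_one])

theorem conj (g : G) (hc : g * z = z * g) (h : RelZ z a b) :
    RelZ z (g * a * g⁻¹) (g * b * g⁻¹) := by
  rcases h with rfl | rfl
  · exact Or.inl rfl
  · refine Or.inr ?_
    have h' : z * g⁻¹ = g⁻¹ * z := (show Commute g z from hc).inv_left.eq.symm
    calc g * (b * z) * g⁻¹ = g * b * (z * g⁻¹) := by group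
      _ = g * b * g⁻¹ * z := by rw [h', ← mul_assoc]

theorem zc_mul (ha : z * a = a * z) (hb : z * b = b * z) : z * (a * b) = a * b * z := by
  rw [← mul_assoc, ha, mul_assoc, hb, mul_assoc]

end RelZ

/-- The hypotheses on the basis. -/
structure Basis (z : G) (l : List G) : Prop where
  z2 : z * z = 1
  zc : ∀ q ∈ l, z * q = q * z
  comm : ∀ q ∈ l, ∀ r ∈ l, RelZ z (q * r) (r * q)
  sq : ∀ q ∈ l, RelZ z (q * q) 1

namespace Basis

variable {z : G} {l : List G}

theorem tail {q : G} (h : Basis z (q :: l)) : Basis z l :=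
  ⟨h.z2, fun r hr => h.zc r (List.mem_cons_of_mem _ hr),
    fun r hr s hs => h.comm r (List.mem_cons_of_mem _ hr) s (List.mem_cons_of_mem _ hs),
    fun r hr => h.sq r (List.mem_cons_of_mem _ hr)⟩

theorem prod_zc : ∀ {l : List G}, Basis z l → ∀ c, z * prodQ l c = prodQ l c * z
  | [], _, c => by simp [prodQ]
  | q :: l, h, c => by
    have h1 := prod_zc h.tail (c / 2)
    show z * (_ * prodQ l (c / 2)) = _ * prodQ l (c / 2) * z
    cases Nat.testBit c 0
    · simp only [cond_false, one_mul]; exact h1
    · simp only [cond_true]; rw [← mul_assoc, h.zc q List.mem_cons_self, mul_assoc, h1, mul_assoc]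

theorem bit_zc {q : G} (h : z * q = q * z) (b : Bool) :
    z * (bif b then q else 1) = (bif b then q else 1) * z := by
  cases b <;> simp [h]

theorem comm_prod : ∀ {l : List G} {q : G}, Basis z (q :: l) → ∀ c,
    RelZ z (q * prodQ l c) (prodQ l c * q)
  | [], q, _, c => by simp [prodQ, RelZ.refl]
  | r :: l, q, h, c => by
    have h2 : Basis z (q :: l) :=
      ⟨h.z2, fun s hs => h.zc s (by rcases List.mem_cons.1 hs with rfl | hs <;> simp_all),
        fun s hs t ht => h.comm s (by rcases List.mem_cons.1 hs with rfl | hs <;> simp_all) t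
          (by rcases List.mem_cons.1 ht with rfl | ht <;> simp_all),
        fun s hs => h.sq s (by rcases List.mem_cons.1 hs with rfl | hs <;> simp_all)⟩
    have ih := comm_prod h2 (c / 2)
    show RelZ z (q * (_ * prodQ l (c / 2))) (_ * prodQ l (c / 2) * q)
    cases Nat.testBit c 0
    · simp only [cond_false, one_mul]; exact ih
    · simp only [cond_true]
      have hp := prod_zc h2.tail (c / 2)
      have a1 := (h.comm q (by simp) r (by simp)).mul h.z2 hp (RelZ.refl (prodQ l (c / 2)))
      rw [mul_assoc, mul_assoc] at a1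
      refine a1.trans h.z2 ?_
      rw [mul_assoc]
      exact RelZ.mul h.z2 (by rw [← mul_assoc, hp, mul_assoc, h.zc q (by simp), mul_assoc])
        (RelZ.refl r) ih

theorem prod_xor : ∀ {l : List G}, Basis z l → ∀ a b,
    RelZ z (prodQ l a * prodQ l b) (prodQ l (a ^^^ b))
  | [], _, a, b => by simp [prodQ, RelZ.refl]
  | q :: l, h, a, b => by
    have ih := prod_xor h.tail (a / 2) (b / 2)
    show RelZ z (_ * prodQ l (a / 2) * (_ * prodQ l (b / 2)))
      ((bif Nat.testBit (a ^^^ b) 0 then q else 1) * prodQ l ((a ^^^ b) / 2))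
    rw [Nat.testBit_xor, Nat.xor_div_two]
    have hpa := prod_zc h.tail (a / 2)
    have hpb := prod_zc h.tail (b / 2)
    have hpx := prod_zc h.tail ((a / 2) ^^^ (b / 2))
    have hq := h.zc q List.mem_cons_self
    cases Nat.testBit a 0 <;> cases Nat.testBit b 0 <;>
      simp only [cond_true, cond_false, one_mul, Bool.false_xor, Bool.true_xor, Bool.not_true,
        Bool.not_false, Bool.xor_false, Bool.xor_true]
    · exact ih
    · rw [← mul_assoc]
      refine (((comm_prod h (a / 2)).symm h.z2).mul h.z2 hpb (RelZ.refl _)).trans h.z2 ?_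
      rw [mul_assoc]
      exact (RelZ.refl q).mul h.z2 hpx ih
    · rw [mul_assoc]
      exact (RelZ.refl q).mul h.z2 hpx ih
    · rw [mul_assoc, ← mul_assoc (prodQ l (a / 2))]
      refine ((RelZ.refl q).mul h.z2 (RelZ.zc_mul (RelZ.zc_mul hq hpa) hpb)
        (((comm_prod h (a / 2)).symm h.z2).mul h.z2 hpb (RelZ.refl _))).trans h.z2 ?_
      rw [mul_assoc, ← mul_assoc q q]
      have e : RelZ z (q * q * (prodQ l (a / 2) * prodQ l (b / 2))) (1 * prodQ l (a / 2 ^^^ b / 2)) :=
        (h.sq q List.mem_cons_self).mul h.z2 hpx ih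
      rwa [one_mul] at e

/-- Conjugation is given by a linear map. -/
theorem conj_ap {L : List G} (hL : Basis z L) {g : G} (hg : g * z = z * g) :
    ∀ {l : List G} {rows : List ℕ}, List.Forall₂ (fun q r => RelZ z (g * q * g⁻¹) (prodQ L r)) l rows →
      ∀ c, RelZ z (g * prodQ l c * g⁻¹) (prodQ L (ap rows c)) := by
  intro l rows hl
  induction hl with
  | nil =>
    intro c
    have h0 : ∀ M : List G, prodQ M 0 = 1 := by
      intro M
      induction M with
      | nil => rfl
      | cons q M ih => simp [prodQ, ih]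
    simp [prodQ, ap, h0, RelZ.refl]
  | @cons q r l rows hq _ ih =>
    intro c
    have ih' := ih (c / 2)
    show RelZ z (g * (_ * prodQ l (c / 2)) * g⁻¹) (prodQ L (_ ^^^ ap rows (c / 2)))
    cases Nat.testBit c 0
    · simp only [cond_false, one_mul, Nat.zero_xor]; exact ih'
    · simp only [cond_true]
      have e : g * (q * prodQ l (c / 2)) * g⁻¹ = (g * q * g⁻¹) * (g * prodQ l (c / 2) * g⁻¹) := by
        group
      rw [e]
      exact (hq.mul hL.z2 (prod_zc hL _) ih').trans hL.z2 (prod_xor hL r _)

theorem mem_prod {H : Subgroup G} : ∀ {l : List G}, (∀ q ∈ l, q ∈ H) → ∀ c, prodQ l c ∈ H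
  | [], _, _ => one_mem H
  | q :: l, h, c => mul_mem (by cases Nat.testBit c 0 <;> simp [h q List.mem_cons_self])
      (mem_prod (fun r hr => h r (List.mem_cons_of_mem _ hr)) _)

theorem prod_zero : ∀ l : List G, prodQ l 0 = 1
  | [] => rfl
  | q :: l => by simp [prodQ, prod_zero l]

end Basis

end Cfsg.Agent.Lib.J4Cent62
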