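import Cfsg.Agent.Lib.J4Cent62.Cert
import Cfsg.Agent.Lib.J4Cent62.NormalForm

/-! Normal forms on coded pairs. -/

set_option autoImplicit false
set_option exponentiation.threshold 13000

namespace Cfsg.Agent.Lib.J4Cent62

open Cfsg.Agent.Lib.Computation

/-- The product of the pairs selected by the bits. -/
def prodP : List (ℕ × ℕ) → ℕ → ℕ × ℕ
  | [], _ => (J4Rep.one, J4Rep.one)
  | q :: l, c => mulP (bif Nat.testBit c 0 then q else (J4Rep.one, J4Rep.one)) (prodP l (c / 2))

theorem valP_one : valP (J4Rep.one, J4Rep.one) = 1 :=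
  Units.ext (by rw [(valP_val okP_one).1, J4Rep.val_one, Units.val_one])

theorem prodP_spec : ∀ {l : List (ℕ × ℕ)}, (∀ q ∈ l, okP q = true) → ∀ c,
    okP (prodP l c) = true ∧ valP (prodP l c) = prodQ (l.map valP) c
  | [], _, c => ⟨okP_one, valP_one⟩
  | q :: l, h, c => by
    obtain ⟨h1, h2⟩ := prodP_spec (fun r hr => h r (List.mem_cons_of_mem _ hr)) (c / 2)
    show okP (mulP _ (prodP l (c / 2))) = true ∧ valP (mulP _ (prodP l (c / 2))) = _ * prodQ _ (c / 2)
    cases Nat.testBit c 0
    · exact ⟨okP_mul okP_one h1, by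
        simp only [cond_false]; rw [valP_mul okP_one h1, h2, valP_one]⟩
    · exact ⟨okP_mul (h q List.mem_cons_self) h1, by
        simp only [cond_true]; rw [valP_mul (h q List.mem_cons_self) h1, h2]⟩

/-- Equal up to `z`, for pairs. -/
def relP (z y a : ℕ × ℕ) : Bool := Nat.beq y.1 a.1 || Nat.beq y.1 (mulP a z).1

theorem relP_sound {z y a : ℕ × ℕ} (hz : okP z = true) (hy : okP y = true) (ha : okP a = true)
    (h : relP z y a = true) : RelZ (valP z) (valP y) (valP a) := by
  simp only [relP, Bool.or_eq_true] at h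
  rcases h with h | h
  · exact Or.inl (valP_ext hy ha (Nat.eq_of_beq_eq_true h))
  · exact Or.inr (by
      rw [valP_ext hy (okP_mul ha hz) (Nat.eq_of_beq_eq_true h), valP_mul ha hz])

theorem relP_sq {z a : ℕ × ℕ} (hz : okP z = true) (ha : okP a = true)
    (h : relP z (mulP a a) (J4Rep.one, J4Rep.one) = true) :
    RelZ (valP z) (valP a * valP a) 1 := by
  rw [← valP_mul ha ha, ← valP_one]
  exact relP_sound hz (okP_mul ha ha) okP_one h

theorem relP_comm {z a b : ℕ × ℕ} (hz : okP z = true) (ha : okP a = true) (hb : okP b = true)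
    (h : relP z (mulP a b) (mulP b a) = true) :
    RelZ (valP z) (valP a * valP b) (valP b * valP a) := by
  rw [← valP_mul ha hb, ← valP_mul hb ha]
  exact relP_sound hz (okP_mul ha hb) (okP_mul hb ha) h

theorem relP_prod {z s : ℕ × ℕ} {l : List (ℕ × ℕ)} {c : ℕ} (hz : okP z = true) (hs : okP s = true)
    (hl : ∀ q ∈ l, okP q = true) (h : relP z s (prodP l c) = true) :
    RelZ (valP z) (valP s) (prodQ (l.map valP) c) := by
  rw [← (prodP_spec hl c).2]
  exact relP_sound hz hs (prodP_spec hl c).1 h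

theorem relP_conj {z g q : ℕ × ℕ} {l : List (ℕ × ℕ)} {c : ℕ} (hz : okP z = true)
    (hg : okP g = true) (hq : okP q = true) (hl : ∀ q ∈ l, okP q = true)
    (h : relP z (mulP (mulP g q) (swapP g)) (prodP l c) = true) :
    RelZ (valP z) (valP g * valP q * (valP g)⁻¹) (prodQ (l.map valP) c) := by
  rw [← valP_swap hg, ← valP_mul hg hq, ← valP_mul (okP_mul hg hq) (okP_swap hg)]
  exact relP_prod hz (okP_mul (okP_mul hg hq) (okP_swap hg)) hl h

theorem valP_sq_one {a : ℕ × ℕ} (ha : okP a = true)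
    (h : Nat.beq (mulP a a).1 J4Rep.one = true) : valP a * valP a = 1 := by
  rw [← valP_mul ha ha, ← valP_one]
  exact valP_ext (okP_mul ha ha) okP_one (Nat.eq_of_beq_eq_true h)

/-- A word and a class decoded from one number. -/
def entry (b n : ℕ) : List ℕ × ℕ := (decode b 64 (n / 4), n % 4)

end Cfsg.Agent.Lib.J4Cent62
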