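import Cfsg.Agent.Lib.J4Cent62.FactsQ
import Cfsg.Agent.Lib.J4Cent62.Check.Sub

/-!
The fixed space of `Q`, the action of `M` on the orbit of length 77, and the simplicity of `M/N`.
-/

set_option autoImplicit false
set_option maxRecDepth 100000
set_option exponentiation.threshold 13000

namespace Cfsg.Agent.Lib.J4Cent62

open Cfsg.Agent.Lib.Computation
open scoped Matrix MatrixGroups

attribute [local irreducible] J4Rep.mul vm powCode evFirst sameB

/-- The point of the fixed space with given coordinates. -/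
noncomputable def sP' (k : ℕ) : Row := pt (vm k sRows)

theorem sP'_inj {a b : ℕ} (ha : a < 1024) (hb : b < 1024) (h : sP' a = sP' b) : a = b := by
  have e := pt_injective (vm_bound _ _) (vm_bound _ _) h
  have h1 := Nat.eq_of_beq_eq_true (List.all_eq_true.1 sRows_inv a (List.mem_range.2 ha))
  have h2 := Nat.eq_of_beq_eq_true (List.all_eq_true.1 sRows_inv b (List.mem_range.2 hb))
  rw [← h1, ← h2]
  show vm (vm a sRows) sInv = vm (vm b sRows) sInv
  exact congrArg (fun x => vm x sInv) e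

theorem exists_sP' {v : Row} (hv : v ∈ fixSub Row gQ) : ∃ k < 1024, v = sP' k := by
  refine of_fixCert (d := 10) fixQ_ok fun g hg => ?_
  obtain ⟨a, ha, rfl⟩ := List.mem_map.1 hg
  have hok : okP a = true := ((Bool.and_eq_true _ _).mp (List.all_eq_true.1 q_mem a ha)).1
  rw [← valP_smul hok]
  exact hv _ (mem_of_sift cq0_ok hok
    ((Bool.and_eq_true _ _).mp (List.all_eq_true.1 q_mem a ha)).2)

theorem O_fixSub {p : Row} (hp : p ∈ gO) : p ∈ fixSub Row gQ :=
  fun q hq => fixN q (gQ_le hq) p hp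

theorem sP'_mem (S : AddSubgroup Row) (hS : ∀ p ∈ gO, p ∈ S) {k : ℕ} (hk : k < 1024) :
    sP' k ∈ S := by
  refine pt_vm_mem S fun i _ hb => hS _ ?_
  have hi10 : i < 10 := by
    by_contra hne
    rw [Nat.testBit_lt_two_pow (lt_of_lt_of_le hk
      (Nat.pow_le_pow_right (show 2 > 0 by norm_num) (show 10 ≤ i by omega)))] at hb
    exact Bool.false_ne_true hb
  obtain ⟨e, he, h⟩ := List.any_eq_true.1 (List.all_eq_true.1 sRows_orbit i (List.mem_range.2 hi10))
  exact ⟨e, he, by rw [Nat.eq_of_beq_eq_true h]⟩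

theorem cardS : Nat.card (fixSub Row gQ) = 1024 := by
  let f : Fin 1024 → fixSub Row gQ := fun k => ⟨sP' k.1, sP'_mem _ (fun p hp => O_fixSub hp) k.2⟩
  have hf : Function.Bijective f := by
    refine ⟨fun a b h => Fin.ext (sP'_inj a.2 b.2 (congrArg Subtype.val h)), fun v => ?_⟩
    obtain ⟨k, hk, hv⟩ := exists_sP' v.2
    exact ⟨⟨k, hk⟩, Subtype.ext hv.symm⟩
  rw [← Nat.card_eq_of_bijective f hf, Nat.card_fin]

theorem span : ∀ v ∈ fixSub Row gQ, v ∈ AddSubgroup.closure gO := by
  intro v hv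
  obtain ⟨k, hk, rfl⟩ := exists_sP' hv
  exact sP'_mem _ (fun p hp => AddSubgroup.subset_closure hp) hk

theorem lm0_base_eq : lm0.base = lm0base := by rw [lm0]

theorem lm1_gen {g : ℕ × ℕ} (hg : g ∈ lm1.gens) :
    okP g = true ∧ valP g ∈ gM ∧ valP g • vu = vu := by
  have hok : okP g = true := (rep_ok g).symm.trans (rep.topGens_ok cm1_ok hg)
  have hmem : valP g ∈ rep.grp (cm1 : List (Level (ℕ × ℕ))) :=
    rep_val g ▸ rep.val_mem_grp (c := (cm1 : List (Level (ℕ × ℕ)))) hg
  have h := rep.fix_base cm0_ok hmem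
  rw [rep_pt, lm0_base_eq] at h
  exact ⟨hok, rep.grp_tail_le cm0_ok hmem, h⟩

theorem u_zero : vu ≠ 0 := by
  intro h
  have hb := fixU_vals
  simp only [Bool.and_eq_true, Bool.not_eq_true'] at hb
  have hlt : lm0base < 2 ^ 112 := by decide +kernel
  have e := pt_injective hlt (Nat.two_pow_pos 112) (h.trans pt_zero.symm)
  rw [e, show Nat.beq 0 0 = true from rfl] at hb
  exact Bool.noConfusion hb.2

theorem stabU : ∀ v ∈ fixSub Row gQ, (∀ m ∈ gM, m • vu = vu → m • v = v) → v = 0 ∨ v = vu := by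
  intro v hv hm
  obtain ⟨k, hk, rfl⟩ : ∃ k < 2 ^ 1, v = pt (vm k uRows) := by
    refine of_fixCert fixU_ok fun g hg => ?_
    obtain ⟨a, ha, rfl⟩ := List.mem_map.1 hg
    rcases List.mem_append.1 ha with ha | ha
    · have hok : okP a = true := ((Bool.and_eq_true _ _).mp (List.all_eq_true.1 q_mem a ha)).1
      rw [← valP_smul hok]
      exact hv _ (mem_of_sift cq0_ok hok
        ((Bool.and_eq_true _ _).mp (List.all_eq_true.1 q_mem a ha)).2)
    · obtain ⟨hok, hM, hu⟩ := lm1_gen ha
      rw [← valP_smul hok]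
      exact hm _ hM hu
  have hb := fixU_vals
  simp only [Bool.and_eq_true] at hb
  interval_cases k
  · left; rw [Nat.eq_of_beq_eq_true hb.1.1, pt_zero]
  · right; rw [Nat.eq_of_beq_eq_true hb.1.2, vu]

theorem sActs_bound : (sActs.all fun r => r.all fun x => Nat.blt x 1024) = true := by decide +kernel

theorem sRoots_bound : (sRoots.all fun x => Nat.blt x 1024) = true := by decide +kernel

theorem getD_lt {l : List ℕ} {b : ℕ} (hb : 0 < b) (h : l.all (fun x => Nat.blt x b) = true)
    (i : ℕ) : l.getD i 0 < b := by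
  rw [List.getD_eq_getElem?_getD]
  cases hi : l[i]? with
  | none => exact hb
  | some x =>
    have := List.all_eq_true.1 h x (List.mem_of_getElem? hi)
    simpa [Nat.blt] using this

theorem smul_sP' {j : ℕ} (hj : j < 3) {k : ℕ} (hk : k < 1024) :
    valP (gens3.getD j (J4Rep.one, J4Rep.one)) • sP' k = sP' (ap (sActs.getD j []) k) ∧
      ap (sActs.getD j []) k < 1024 := by
  set g := gens3.getD j (J4Rep.one, J4Rep.one) with hg
  have hgok : okP g = true := by
    obtain ⟨h1, h2, h3, -⟩ := oks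
    rw [hg]
    interval_cases j
    · exact h1
    · exact h2
    · exact h3
  obtain ⟨h, hlen⟩ := sActs_ok
  have hz : (g, sActs.getD j []) ∈ [sa, sb, ea].zip sActs := by
    rw [List.mem_iff_getElem?]
    refine ⟨j, List.getElem?_zip_eq_some.2 ⟨?_, ?_⟩⟩
    · rw [hg, gens3]; interval_cases j <;> rfl
    · rw [List.getD_eq_getElem?_getD, List.getElem?_eq_getElem (by omega), Option.getD_some]
  have h' := List.all_eq_true.1 (List.all_eq_true.1 h k (List.mem_range.2 hk)) _ hz
  refine ⟨by rw [sP', valP_smul hgok, ← pt_vm, Nat.eq_of_beq_eq_true h', sP'], ?_⟩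
  refine ap_lt' (fun x hx => ?_) k
  rw [List.getD_eq_getElem?_getD, List.getElem?_eq_getElem (by omega), Option.getD_some] at hx
  have := List.all_eq_true.1 (List.all_eq_true.1 sActs_bound _ (List.getElem_mem _)) x hx
  simpa [Nat.blt] using this
where
  ap_lt' : ∀ {r : List ℕ}, (∀ x ∈ r, x < 2 ^ 10) → ∀ c, ap r c < 2 ^ 10
  | [], _, _ => Nat.two_pow_pos 10
  | x :: r, h, c => by
    show (bif Nat.testBit c 0 then x else 0) ^^^ ap r (c / 2) < 2 ^ 10
    refine Nat.xor_lt_two_pow ?_ (ap_lt' (fun y hy => h y (List.mem_cons_of_mem _ hy)) _)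
    cases Nat.testBit c 0
    · exact Nat.two_pow_pos 10
    · exact h x List.mem_cons_self

theorem word_sP' : ∀ {w : List ℕ}, (∀ j ∈ w, j < 3) → ∀ {k : ℕ}, k < 1024 →
    wordVal w • sP' k = sP' (apWord sActs w k) ∧ apWord sActs w k < 1024
  | [], _, k, hk => ⟨one_smul _ _, hk⟩
  | j :: w, h, k, hk => by
    obtain ⟨h1, h2⟩ := smul_sP' (h j List.mem_cons_self) hk
    obtain ⟨h3, h4⟩ := word_sP' (fun i hi => h i (List.mem_cons_of_mem _ hi)) h2
    exact ⟨by rw [wordVal, mul_smul, h1, h3]; rfl, h4⟩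

theorem ncard_filter {α : Type} (f : ℕ → α) (l : List ℕ) (p : ℕ → Bool)
    (hf : ∀ a < l.length, ∀ b < l.length, f a = f b → a = b) {A : Set α}
    (hA : ∀ x, x ∈ A ↔ ∃ i < l.length, p (l.getD i 0) = true ∧ x = f i) :
    A.ncard = (l.filter p).length := by
  classical
  have e : A = ↑(((Finset.range l.length).filter fun i => p (l.getD i 0) = true).image f) := by
    ext x
    simp only [hA, Finset.coe_image, Set.mem_image, Finset.coe_filter, Finset.mem_range,
      Set.mem_setOf_eq]
    exact ⟨fun ⟨i, hi, hp, hx⟩ => ⟨i, ⟨hi, hp⟩, hx.symm⟩,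
      fun ⟨i, ⟨hi, hp⟩, hx⟩ => ⟨i, hi, hp, hx.symm⟩⟩
  rw [e, Set.ncard_coe_finset, Finset.card_image_of_injOn (fun a ha b hb h => hf a
    (Finset.mem_range.1 (Finset.mem_filter.1 ha).1) b
    (Finset.mem_range.1 (Finset.mem_filter.1 hb).1) h)]
  have hl : l = (List.range l.length).map fun i => l.getD i 0 := by
    refine List.ext_getElem (by simp) fun i h1 h2 => ?_
    rw [List.getElem_map, List.getElem_range, List.getD_eq_getElem?_getD,
      List.getElem?_eq_getElem h1, Option.getD_some]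
  conv_rhs => rw [hl, List.filter_map, List.length_map]
  rw [← List.toFinset_range, ← List.toFinset_filter,
    List.toFinset_card_of_nodup (List.nodup_range.filter _)]
  simp [Function.comp_def]

theorem exists_mask (P : ℕ → Prop) : ∃ s < 8, ∀ r < 3, s.testBit r = true ↔ P r := by
  classical
  refine ⟨(if P 0 then 1 else 0) + (if P 1 then 2 else 0) + (if P 2 then 4 else 0), ?_, ?_⟩
  · split_ifs <;> norm_num
  · intro r hr
    interval_cases r <;> split_ifs <;> simp_all [Nat.testBit, Nat.shiftRight_eq_div_pow]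

theorem orbits : ∀ A : Set Row, A ⊆ {v | v ∈ fixSub Row gQ ∧ v ≠ 0} → vu ∈ A →
    (∀ c ∈ gC0, ∀ p ∈ A, c • p ∈ A) → A.ncard ∈ ({77, 407, 693, 1023} : Finset ℕ) := by
  intro A hA hu hst
  obtain ⟨htree, hlen, hroot⟩ := sTree_ok
  obtain ⟨hsz, hcls⟩ := sTree_sizes
  have hiff : ∀ i < 1023, (sP' (i + 1) ∈ A ↔ sP' (sRoots.getD (sTree.getD i 0 % 4) 0) ∈ A) := by
    intro i hi
    have hm : (sTree.getD i 0, i) ∈ sTree.zip (List.range 1023) := by
      rw [List.mem_iff_getElem?]
      refine ⟨i, List.getElem?_zip_eq_some.2 ⟨?_, List.getElem?_range hi⟩⟩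
      rw [List.getD_eq_getElem?_getD, List.getElem?_eq_getElem (by omega), Option.getD_some]
    have h := List.all_eq_true.1 htree _ hm
    simp only [Bool.and_eq_true, List.all_eq_true] at h
    have hw : ∀ j ∈ (entry 4 (sTree.getD i 0)).1, j < 3 := fun j hj =>
      Nat.le_of_ble_eq_true (h.1 j hj)
    obtain ⟨hsm, -⟩ := word_sP' hw (getD_lt (by norm_num) sRoots_bound (sTree.getD i 0 % 4))
    have he : apWord sActs (entry 4 (sTree.getD i 0)).1 (sRoots.getD (sTree.getD i 0 % 4) 0) =
        i + 1 := Nat.eq_of_beq_eq_true h.2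
    rw [he] at hsm
    refine ⟨fun hp => ?_, fun hp => hsm ▸ hst _ (wordVal_mem hw) _ hp⟩
    rw [← hsm] at hp
    have := hst _ (inv_mem (wordVal_mem hw)) _ hp
    rwa [inv_smul_smul] at this
  obtain ⟨s, hs8, hs⟩ := exists_mask fun r => sP' (sRoots.getD r 0) ∈ A
  have hvu : sP' 1 = vu := by
    have h := sRows_orbit
    rw [sP', vu]
    congr 1
    decide +kernel
  have hs0 : s.testBit 0 = true := (hs 0 (by norm_num)).2 (by rw [hroot, hvu]; exact hu)
  have hc := List.all_eq_true.1 hsz s (List.mem_range.2 hs8)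
  rw [hs0] at hc
  simp only [Bool.not_true, Bool.false_or, List.contains_iff_mem] at hc
  rw [ncard_filter (fun i => sP' (i + 1)) sTree (fun n => Nat.testBit s (n % 4))]
  · simpa using hc
  · intro a ha b hb h
    rw [hlen] at ha hb
    have := sP'_inj (by omega) (by omega) h
    omega
  · intro x
    have hclass : ∀ i < 1023, sTree.getD i 0 % 4 < 3 := by
      intro i hi
      have hm : sTree.getD i 0 ∈ sTree := by
        rw [List.getD_eq_getElem?_getD, List.getElem?_eq_getElem (by omega), Option.getD_some]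
        exact List.getElem_mem _
      exact Nat.le_of_ble_eq_true (List.all_eq_true.1 hcls _ hm)
    refine ⟨fun hx => ?_, ?_⟩
    · obtain ⟨k, hk, rfl⟩ := exists_sP' (hA hx).1
      have hk0 : k ≠ 0 := by
        rintro rfl
        refine (hA hx).2 ?_
        rw [sP', show vm 0 sRows = 0 by decide +kernel, pt_zero]
      refine ⟨k - 1, by omega, ?_, congrArg sP' (show k = k - 1 + 1 by omega)⟩
      refine (hs _ (hclass _ (by omega))).2 ((hiff _ (by omega)).1 ?_)
      rwa [show k - 1 + 1 = k by omega]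
    · rintro ⟨i, hi, hp, rfl⟩
      rw [hlen] at hi
      exact (hiff i hi).2 ((hs _ (hclass i hi)).1 hp)

theorem sub_iff {A : Set Row} (hst : ∀ g ∈ lm1.gens, ∀ p ∈ A, valP g • p ∈ A)
    (hst' : ∀ g ∈ lm1.gens, ∀ p, valP g • p ∈ A → p ∈ A) : ∀ {w : List ℕ} (v : ℕ),
    (∀ j ∈ w, j < lm1.gens.length) → (pt (subWord w v) ∈ A ↔ pt v ∈ A)
  | [], _, _ => Iff.rfl
  | j :: w, v, h => by
    have hj := h j List.mem_cons_self
    rw [subWord, sub_iff hst hst' _ (fun i hi => h i (List.mem_cons_of_mem _ hi)),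
      List.getD_eq_getElem?_getD, List.getElem?_eq_getElem hj, Option.getD_some, pt_vm,
      ← valP_smul (lm1_gen (List.getElem_mem hj)).1]
    exact ⟨hst' _ (List.getElem_mem hj) _, hst _ (List.getElem_mem hj) _⟩

theorem conj_smul_of_fix {G α : Type*} [Group G] [MulAction G α] {g : G} (h : G) {u : α}
    (hg : g • u = u) : g • h • u = (g * h * g⁻¹) • u := by
  rw [mul_smul, mul_smul, inv_smul_eq_iff.2 hg.symm]

theorem eq_conj_smul_of_fix {G α : Type*} [Group G] [MulAction G α] {g h : G} {u p : α}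
    (hg : g • u = u) (hp : h • u = g • p) : p = (g⁻¹ * h * g⁻¹⁻¹) • u := by
  rw [inv_inv, mul_smul, mul_smul, hg]
  exact eq_inv_smul_iff.2 hp.symm

theorem simp_MN : ∀ H : Subgroup GL112, gN ≤ H → H ≤ gM →
    (∀ m ∈ gM, ∀ h ∈ H, m * h * m⁻¹ ∈ H) → H = gN ∨ H = gM := by
  intro H hNH hHM hn
  haveI : Finite gM := Nat.finite_of_card_ne_zero (by rw [card_gM]; norm_num)
  haveI : Finite H := Finite.of_injective (fun a : H => (⟨a.1, hHM a.2⟩ : gM))
    fun a b h => Subtype.ext (congrArg (fun y : gM => y.1) h)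
  let B : Set Row := MulAction.orbit H vu
  have hBmem : ∀ h ∈ H, h • vu ∈ B := fun h hh => ⟨⟨h, hh⟩, rfl⟩
  have hcard : B.ncard ∣ Nat.card H := by
    rw [show B.ncard = (MulAction.stabilizer H vu).index from
      (MulAction.index_stabilizer H vu).symm]
    exact Subgroup.index_dvd_card _
  obtain ⟨htree, hlen, hroot⟩ := sub_ok
  obtain ⟨hsz, hcls⟩ := sub_sizes
  have hst : ∀ g ∈ lm1.gens, ∀ p ∈ B, valP g • p ∈ B := by
    rintro g hg p ⟨h, rfl⟩
    obtain ⟨-, hgM, hgu⟩ := lm1_gen hg
    have e := @conj_smul_of_fix GL112 Row _ _ (valP g) h.1 vu hgu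
    show valP g • h.1 • vu ∈ B
    rw [e]
    exact hBmem _ (hn _ hgM _ h.2)
  have hst' : ∀ g ∈ lm1.gens, ∀ p, valP g • p ∈ B → p ∈ B := by
    rintro g hg p ⟨h, hp⟩
    obtain ⟨-, hgM, hgu⟩ := lm1_gen hg
    have e := @eq_conj_smul_of_fix GL112 Row _ _ (valP g) h.1 vu p hgu hp
    exact e ▸ hBmem _ (hn _ (inv_mem hgM) _ h.2)
  obtain ⟨s, hs8, hs⟩ := exists_mask fun r => pt (subRoots.getD r 0) ∈ B
  have hs0 : s.testBit 0 = true :=
    (hs 0 (by norm_num)).2 (by rw [hroot]; exact MulAction.mem_orbit_self vu)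
  have hc := List.all_eq_true.1 hsz s (List.mem_range.2 hs8)
  rw [hs0] at hc
  simp only [Bool.not_true, Bool.false_or, List.contains_iff_mem] at hc
  have hO : lm0.orb.toList.length = 77 := by
    have h := lm0_head
    simp only [Bool.and_eq_true] at h
    exact Nat.eq_of_beq_eq_true h.1.2
  let pts : ℕ → ℕ := fun i => (lm0.orb.toList.map Entry.point).getD i 0
  have hpt : ∀ i < 77, (pt (pts i) ∈ B ↔ pt (subRoots.getD (subTree.getD i 0 % 4) 0) ∈ B) ∧
      ∃ e, lm0.orb.toList[i]? = some e ∧ pts i = e.point := by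
    intro i hi
    obtain ⟨e, he⟩ : ∃ e, lm0.orb.toList[i]? = some e := ⟨_, List.getElem?_eq_getElem (by omega)⟩
    have hp : pts i = e.point := by
      simp only [pts, List.getD_eq_getElem?_getD, List.getElem?_map, he, Option.map_some,
        Option.getD_some]
    refine ⟨?_, e, he, hp⟩
    have hm : (subTree.getD i 0, e) ∈ subTree.zip lm0.orb.toList := by
      rw [List.mem_iff_getElem?]
      refine ⟨i, List.getElem?_zip_eq_some.2 ⟨?_, he⟩⟩
      rw [List.getD_eq_getElem?_getD, List.getElem?_eq_getElem (by omega), Option.getD_some]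
    have h := List.all_eq_true.1 htree _ hm
    simp only [Bool.and_eq_true, List.all_eq_true] at h
    have hw : ∀ j ∈ (entry subBase (subTree.getD i 0)).1, j < lm1.gens.length := fun j hj =>
      Nat.le_of_ble_eq_true (h.1 j hj)
    have he2 : subWord (entry subBase (subTree.getD i 0)).1
        (subRoots.getD (subTree.getD i 0 % 4) 0) = e.point := Nat.eq_of_beq_eq_true h.2
    rw [hp, ← he2]
    exact sub_iff hst hst' _ hw
  have hclass : ∀ i < 77, subTree.getD i 0 % 4 < 3 := by
    intro i hi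
    have hm : subTree.getD i 0 ∈ subTree := by
      rw [List.getD_eq_getElem?_getD, List.getElem?_eq_getElem (by omega), Option.getD_some]
      exact List.getElem_mem _
    exact Nat.le_of_ble_eq_true (List.all_eq_true.1 hcls _ hm)
  have hnc : B.ncard = (subTree.filter fun n => Nat.testBit s (n % 4)).length := by
    refine ncard_filter (fun i => pt (pts i)) subTree _ ?_ ?_
    · intro a ha b hb h
      rw [hlen] at ha hb
      obtain ⟨-, e, he, hpe⟩ := hpt a ha
      obtain ⟨-, e', he', hpe'⟩ := hpt b hb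
      simp only [hpe, hpe'] at h
      have hee := rep.entry_eq cm0_ok (List.mem_of_getElem? he) (List.mem_of_getElem? he')
        (by rw [rep_pt, rep_pt]; exact h)
      have hn' : lm0.orb.toList.Nodup := ((rep.levelFacts cm0_ok).nodup).of_map _
      exact (List.getElem?_inj (i := a) (by omega) hn').1 (he.trans (hee ▸ he'.symm))
    · intro x
      refine ⟨fun hx => ?_, ?_⟩
      · obtain ⟨h, hh⟩ := hx
        obtain ⟨e, he, hp⟩ := M_smul (hHM h.2)
        obtain ⟨i, hi, rfl⟩ := List.getElem_of_mem he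
        obtain ⟨hiff, e', he', hpe⟩ := hpt i (by omega)
        rw [List.getElem?_eq_getElem hi, Option.some.injEq] at he'
        have hx' : x = pt (pts i) := by rw [hpe, ← he', ← hp, ← hh]; rfl
        refine ⟨i, by omega, (hs _ (hclass i (by omega))).2 (hiff.1 ?_), hx'⟩
        exact hx' ▸ ⟨h, hh⟩
      · rintro ⟨i, hi, hp, rfl⟩
        rw [hlen] at hi
        exact (hpt i hi).1.2 ((hs _ (hclass i hi)).1 hp)
  have hdvd : B.ncard ∣ 10899947520 := hcard.trans (card_gM ▸ Subgroup.card_dvd_of_le hHM)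
  rw [← hnc] at hc
  simp only [List.mem_cons, List.not_mem_nil, or_false] at hc
  rcases hc with h | h | h | h
  · left
    refine le_antisymm (fun g hg => ker g (gM_le (hHM hg)) fun p hp => ?_) hNH
    obtain ⟨m, hm, rfl⟩ := Omem p hp
    obtain ⟨b, hb⟩ := Set.ncard_eq_one.1 h
    have h1 : ∀ k ∈ H, k • vu = vu := fun k hk => by
      have e1 := hBmem k hk
      have e2 : vu ∈ B := MulAction.mem_orbit_self vu
      rw [hb, Set.mem_singleton_iff] at e1 e2
      rw [e1, ← e2]
    have := h1 _ (hn _ (inv_mem hm) _ hg)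
    rw [inv_inv, mul_smul, mul_smul, inv_smul_eq_iff] at this
    exact this
  · rw [h] at hdvd; norm_num at hdvd
  · rw [h] at hdvd; norm_num at hdvd
  · right
    refine le_antisymm hHM ?_
    have h7 : 7 ∣ Nat.card H := (show 7 ∣ B.ncard by rw [h]; norm_num).trans hcard
    let Hm : Subgroup gM := H.subgroupOf gM
    haveI hHn : Hm.Normal := ⟨fun k hk m => hn m.1 m.2 k.1 hk⟩
    have hidx : ¬ 7 ∣ Hm.index := by
      intro h'
      have e := Hm.card_mul_index
      rw [Nat.card_congr (Subgroup.subgroupOfEquivOfLe hHM).toEquiv, card_gM] at e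
      have := Nat.mul_dvd_mul h7 h'
      rw [e] at this
      norm_num at this
    have h7mem : ∀ m : gM, m ^ 7 = 1 → m ∈ Hm := by
      intro m hm
      rw [← QuotientGroup.eq_one_iff]
      have h1 : orderOf (m : gM ⧸ Hm) ∣ 7 := orderOf_dvd_of_pow_eq_one (by
        rw [← QuotientGroup.mk_pow, hm]; rfl)
      rcases (Nat.dvd_prime (by norm_num)).1 h1 with e | e
      · exact orderOf_eq_one_iff.1 e
      · exfalso
        apply hidx
        rw [Subgroup.index, ← e]
        exact orderOf_dvd_natCard _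
    rw [gM_eq, Subgroup.closure_le]
    have hsev := seven_gens
    simp only [Bool.and_eq_true] at hsev
    intro g hg
    rcases hg with rfl | rfl
    · exact h7mem ⟨_, mem_sa⟩ (Subtype.ext (pow_eq_one oks.1 hsev.1.1.1))
    · exact h7mem ⟨_, mem_sb⟩ (Subtype.ext (pow_eq_one oks.2.1 hsev.1.1.2))

end Cfsg.Agent.Lib.J4Cent62
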