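import Cfsg.Agent.Lib.J4Cent62.Groups
import Cfsg.Agent.Lib.J4Cent62.Hom
import Cfsg.Agent.Lib.J4Cent62.Check.M0
import Cfsg.Agent.Lib.J4Cent62.Check.Fixed

/-!
The groups `C` and `C0` and the orbit of length 77.
-/

set_option autoImplicit false
set_option maxRecDepth 100000
set_option exponentiation.threshold 13000

namespace Cfsg.Agent.Lib.J4Cent62

open Cfsg.Agent.Lib.Computation
open scoped Matrix MatrixGroups

theorem vm_bound (x A : ℕ) : vm x A < 2 ^ 112 := vm_lt x A 112

attribute [local irreducible] J4Rep.mul vm powCode evFirst sameB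

theorem conj_mem_closure {G : Type*} [Group G] {H : Subgroup G} {S : Set G}
    (hH : H = Subgroup.closure S) {a : G} (h : ∀ g ∈ S, a * g * a⁻¹ ∈ H) {m : G} (hm : m ∈ H) :
    a * m * a⁻¹ ∈ H := by
  have hle : Subgroup.closure S ≤ H.comap (MulAut.conj a).toMonoidHom :=
    (Subgroup.closure_le _).2 h
  exact hle (hH ▸ hm)

/-- The known part of the centraliser. -/
noncomputable def gC0 : Subgroup GL112 := Subgroup.closure {valP sa, valP sb, valP ea}

/-- The centraliser. -/
noncomputable def gC : Subgroup GL112 := hom.range ⊓ Subgroup.centralizer {vz}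

/-- The base point. -/
noncomputable def vu : Row := pt lm0base

/-- The orbit. -/
noncomputable def gO : Set Row := {p | ∃ e ∈ lm0.orb.toList, p = pt e.point}

theorem valP_pow {c : ℕ × ℕ} (hc : okP c = true) : ∀ n : ℕ,
    (((valP c ^ n)⁻¹ : GL112) : J4Rep.Mat112) = J4Rep.val (powCode c.1 n)
  | 0 => by rw [pow_zero, inv_one, Units.val_one, powCode, J4Rep.val_one]
  | n + 1 => by
    rw [pow_succ', mul_inv_rev, Units.val_mul, valP_pow hc n, (valP_val hc).2, powCode,
      J4Rep.val_mul]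

theorem pow_eq_one {c : ℕ × ℕ} (hc : okP c = true) {n : ℕ}
    (h : Nat.beq (powCode c.1 n) J4Rep.one = true) : valP c ^ n = 1 := by
  refine inv_eq_one.1 (Units.ext ?_)
  rw [valP_pow hc n, Nat.eq_of_beq_eq_true h, J4Rep.val_one, Units.val_one]

theorem ne_one_of {c : ℕ × ℕ} (hc : okP c = true)
    (h : J4Rep.val c.1 ≠ 1) : valP c ≠ 1 := by
  intro e
  apply h
  rw [← (valP_val hc).2, e, inv_one, Units.val_one]

theorem mem_sa : valP sa ∈ gM := sift_all List.mem_cons_self

theorem mem_sb : valP sb ∈ gM := sift_all (List.mem_cons_of_mem _ List.mem_cons_self)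

theorem mem_list_aa : mulP ea ea ∈ [sa, sb, ez, mulP ea ea, mulP (mulP ea sa) (swapP ea),
    mulP (mulP ea sb) (swapP ea), mulP eR (swapP ea)] :=
  (List.mem_cons_of_mem _ (List.mem_cons_of_mem _ (List.mem_cons_of_mem _ List.mem_cons_self)))

theorem mem_aa : valP (mulP ea ea) ∈ gM := sift_all mem_list_aa

theorem mem_list_asa : mulP (mulP ea sa) (swapP ea) ∈ [sa, sb, ez, mulP ea ea, mulP (mulP ea sa) (swapP ea),
    mulP (mulP ea sb) (swapP ea), mulP eR (swapP ea)] :=
  (List.mem_cons_of_mem _ (List.mem_cons_of_mem _ (List.mem_cons_of_mem _ (List.mem_cons_of_mem _ List.mem_cons_self))))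

theorem mem_asa : valP (mulP (mulP ea sa) (swapP ea)) ∈ gM := sift_all mem_list_asa

theorem mem_list_asb : mulP (mulP ea sb) (swapP ea) ∈ [sa, sb, ez, mulP ea ea, mulP (mulP ea sa) (swapP ea),
    mulP (mulP ea sb) (swapP ea), mulP eR (swapP ea)] :=
  (List.mem_cons_of_mem _ (List.mem_cons_of_mem _ (List.mem_cons_of_mem _ (List.mem_cons_of_mem _ (List.mem_cons_of_mem _ List.mem_cons_self)))))

theorem mem_asb : valP (mulP (mulP ea sb) (swapP ea)) ∈ gM := sift_all mem_list_asb

theorem mem_list_ra : mulP eR (swapP ea) ∈ [sa, sb, ez, mulP ea ea, mulP (mulP ea sa) (swapP ea),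
    mulP (mulP ea sb) (swapP ea), mulP eR (swapP ea)] :=
  (List.mem_cons_of_mem _ (List.mem_cons_of_mem _ (List.mem_cons_of_mem _ (List.mem_cons_of_mem _ (List.mem_cons_of_mem _ (List.mem_cons_of_mem _ List.mem_cons_self))))))

theorem mem_ra : valP (mulP eR (swapP ea)) ∈ gM := sift_all mem_list_ra

theorem gM_le : gM ≤ gC0 := by
  rw [gM_eq, gC0]
  exact Subgroup.closure_mono (by intro g hg; rcases hg with h | h <;> simp_all)

theorem ea_mem : valP ea ∈ gC0 := Subgroup.subset_closure (by simp)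

theorem ea_sq : valP ea * valP ea ∈ gM := by
  rw [← valP_mul oks.2.2.1 oks.2.2.1]; exact mem_aa

theorem ea_conj {m : GL112} (hm : m ∈ gM) : valP ea * m * (valP ea)⁻¹ ∈ gM := by
  obtain ⟨h1, h2, h3, -⟩ := oks
  have e : ∀ s : ℕ × ℕ, okP s = true →
      valP (mulP (mulP ea s) (swapP ea)) = valP ea * valP s * (valP ea)⁻¹ := fun s hs => by
    rw [valP_mul (okP_mul h3 hs) (okP_swap h3), valP_mul h3 hs, valP_swap h3]
  refine conj_mem_closure gM_eq (fun g hg => ?_) hm
  rw [Set.mem_insert_iff, Set.mem_singleton_iff] at hg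
  rcases hg with hg | hg <;> rw [hg]
  · rw [← e sa h1]; exact mem_asa
  · rw [← e sb h2]; exact mem_asb

theorem C0_cases {g : GL112} (hg : g ∈ gC0) : g ∈ gM ∨ (valP ea)⁻¹ * g ∈ gM := by
  have hinv : ∀ m ∈ gM, (valP ea)⁻¹ * m * valP ea ∈ gM := by
    intro m hm
    have := mul_mem (mul_mem (inv_mem ea_sq) (ea_conj hm)) ea_sq
    rwa [show (valP ea * valP ea)⁻¹ * (valP ea * m * (valP ea)⁻¹) * (valP ea * valP ea) =
      (valP ea)⁻¹ * m * valP ea by group] at this
  unfold gC0 at hg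
  induction hg using Subgroup.closure_induction with
  | mem w hw =>
    rcases hw with rfl | rfl | rfl
    · exact Or.inl mem_sa
    · exact Or.inl mem_sb
    · exact Or.inr (by rw [inv_mul_cancel]; exact one_mem _)
  | one => exact Or.inl (one_mem _)
  | mul a b _ _ ha hb =>
    rcases ha with ha | ha <;> rcases hb with hb | hb
    · exact Or.inl (mul_mem ha hb)
    · refine Or.inr ?_
      have := mul_mem (hinv a ha) hb
      rwa [show (valP ea)⁻¹ * a * valP ea * ((valP ea)⁻¹ * b) = (valP ea)⁻¹ * (a * b) by group]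
        at this
    · refine Or.inr ?_
      have := mul_mem ha hb
      rwa [mul_assoc] at this
    · refine Or.inl ?_
      have := mul_mem (mul_mem ea_sq (hinv _ ha)) hb
      rwa [show valP ea * valP ea * ((valP ea)⁻¹ * ((valP ea)⁻¹ * a) * valP ea) *
        ((valP ea)⁻¹ * b) = a * b by group] at this
  | inv a _ ha =>
    rcases ha with ha | ha
    · exact Or.inl (inv_mem ha)
    · refine Or.inr ?_
      have := mul_mem (hinv _ (inv_mem ha)) (inv_mem ea_sq)
      rwa [show (valP ea)⁻¹ * ((valP ea)⁻¹ * a)⁻¹ * valP ea * (valP ea * valP ea)⁻¹ =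
        (valP ea)⁻¹ * a⁻¹ by group] at this

theorem normM : ∀ c ∈ gC0, ∀ h ∈ gM, c * h * c⁻¹ ∈ gM := by
  intro c hc h hh
  rcases C0_cases hc with hc | hc
  · exact mul_mem (mul_mem hc hh) (inv_mem hc)
  · have := ea_conj (mul_mem (mul_mem hc hh) (inv_mem hc))
    rwa [show valP ea * ((valP ea)⁻¹ * c * h * ((valP ea)⁻¹ * c)⁻¹) * (valP ea)⁻¹ = c * h * c⁻¹ by
      group] at this

theorem ea_notMem : valP ea ∉ gM := by
  have h := rep.notMem_grp_of_siftFail cm0_ok (h := ea) ((rep_ok ea).trans oks.2.2.1) outer_out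
  rwa [rep_val] at h

theorem card_C0 : Nat.card gC0 = 21799895040 := by
  have hidx : (gM.subgroupOf gC0).index = 2 := by
    rw [Subgroup.index_eq_two_iff]
    refine ⟨⟨(valP ea)⁻¹, inv_mem ea_mem⟩, fun b => ?_⟩
    show Xor' (b.1 * (valP ea)⁻¹ ∈ gM) (b.1 ∈ gM)
    rcases C0_cases b.2 with h | h
    · refine Or.inr ⟨h, fun h' => ea_notMem ?_⟩
      have := mul_mem (inv_mem h) h'
      rw [← mul_assoc, inv_mul_cancel, one_mul] at this
      exact inv_mem_iff.1 this
    · refine Or.inl ⟨?_, fun h' => ea_notMem ?_⟩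
      · have := ea_conj h
        rwa [mul_inv_cancel_left] at this
      · have := mul_mem h' (inv_mem h)
        rwa [show b.1 * ((valP ea)⁻¹ * b.1)⁻¹ = valP ea by group] at this
  have h := (gM.subgroupOf gC0).card_mul_index
  rw [hidx, Nat.card_congr (Subgroup.subgroupOfEquivOfLe gM_le).toEquiv, card_gM] at h
  exact h.symm

theorem comm_of_beq {a b : ℕ × ℕ} (ha : okP a = true) (hb : okP b = true)
    (h : Nat.beq (mulP a b).1 (mulP b a).1 = true) : valP a * valP b = valP b * valP a := by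
  rw [← valP_mul ha hb, ← valP_mul hb ha]
  exact valP_ext (okP_mul ha hb) (okP_mul hb ha) (Nat.eq_of_beq_eq_true h)

theorem C0_le : gC0 ≤ gC := by
  obtain ⟨h1, h2, h3, h4, -⟩ := oks
  rw [gC0, Subgroup.closure_le]
  intro g hg
  have hcm : ∀ s ∈ [sa, sb, ea], okP s = true → valP s * vz = vz * valP s := fun s hs hs' => by
    have h := List.all_eq_true.1 comm_gens s hs
    exact @comm_of_beq s ez hs' h4 h
  have hz : ∀ s : GL112, s * vz = vz * s → s ∈ Subgroup.centralizer {vz} := fun s hs => by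
    rw [Subgroup.mem_centralizer_iff]
    rintro w rfl
    exact hs.symm
  rcases hg with rfl | rfl | rfl
  · exact ⟨mem_range_of h1 ((inR_evFirst wa).pow 6) words_sa, hz _ (hcm sa List.mem_cons_self h1)⟩
  · exact ⟨mem_range_of h2 ((inR_evFirst wb).pow 1) words_sb, hz _ (hcm sb (List.mem_cons_of_mem _ List.mem_cons_self) h2)⟩
  · exact ⟨mem_range_of h3 (inR_evFirst wo) words_ea, hz _ (hcm ea (List.mem_cons_of_mem _ (List.mem_cons_of_mem _ List.mem_cons_self)) h3)⟩

theorem M_smul {m : GL112} (hm : m ∈ gM) : m • vu ∈ gO := by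
  obtain ⟨e, he, h⟩ := rep.smul_base_mem cm0_ok hm
  rw [rep_pt, rep_pt] at h
  exact ⟨e, he, h⟩

theorem Omem : ∀ p ∈ gO, ∃ m ∈ gM, p = m • vu := by
  rintro p ⟨e, he, rfl⟩
  have h := rep.fwd_smul_base cm0_ok he
  rw [rep_pt, rep_pt] at h
  exact ⟨_, rep.fwd_mem_grp cm0_ok he, h.symm⟩

theorem Ostab : ∀ c ∈ gC0, ∀ p ∈ gO, c • p ∈ gO := by
  intro c hc p hp
  obtain ⟨m, hm, rfl⟩ := Omem p hp
  rw [← mul_smul]
  rcases C0_cases hc with hc | hc
  · exact M_smul (mul_mem hc hm)
  · obtain ⟨e, he, h⟩ := M_smul (mul_mem hc hm)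
    have e2 : c * m = valP ea * ((valP ea)⁻¹ * c * m) := by group
    rw [e2, mul_smul, h, valP_smul oks.2.2.1, ← pt_vm]
    obtain ⟨e', he', h'⟩ := List.any_eq_true.1 (List.all_eq_true.1 outer_orbit e he)
    exact ⟨e', he', by rw [Nat.eq_of_beq_eq_true h']⟩

theorem cardO : gO.ncard = 77 := by
  have hlen : lm0.orb.toList.length = 77 := by
    have h := lm0_head
    simp only [Bool.and_eq_true] at h
    exact Nat.eq_of_beq_eq_true h.1.2
  have hinj : ∀ e ∈ lm0.orb.toList, ∀ e' ∈ lm0.orb.toList, pt e.point = pt e'.point → e = e' :=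
    fun e he e' he' h => rep.entry_eq cm0_ok he he' (by rw [rep_pt, rep_pt]; exact h)
  have hn : lm0.orb.toList.Nodup := ((rep.levelFacts cm0_ok).nodup).of_map _
  classical
  have e : gO = ↑((lm0.orb.toList.map fun e => pt e.point).toFinset) := by
    ext p
    simp only [List.coe_toFinset, List.mem_map, Set.mem_setOf_eq, gO]
    exact ⟨fun ⟨e, he, h⟩ => ⟨e, he, h.symm⟩, fun ⟨e, he, h⟩ => ⟨e, he, h.symm⟩⟩
  rw [e, Set.ncard_coe_finset, List.toFinset_card_of_nodup (hn.map_on hinj), List.length_map, hlen]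

theorem fixN : ∀ n ∈ gN, ∀ p ∈ gO, n • p = p := by
  rintro n hn p ⟨e, he, rfl⟩
  have hle : gN ≤ MulAction.stabilizer GL112 (pt e.point) := by
    refine (Subgroup.closure_le _).2 ?_
    rintro _ ⟨s, hs, rfl⟩
    show rep.val s • pt e.point = pt e.point
    have hok : okP s = true := (rep_ok s).symm.trans (rep.topGens_ok cm7_ok hs)
    have := List.all_eq_true.1 (List.all_eq_true.1 N_fix s hs) e he
    refine ((congrArg (· • pt e.point) (rep_val s)).trans ?_)
    show valP s • pt e.point = pt e.point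
    rw [valP_smul hok, ← pt_vm, Nat.eq_of_beq_eq_true this]
  exact hle hn

theorem bases_mem : ([lm0base, lm1base, lm2base, lm3base, lm4base, lm5base, lm6base].all fun b =>
    lm0.orb.toList.any fun e => Nat.beq e.point b) = true := by decide +kernel

theorem base_mem {b : ℕ} (hb : b ∈ [lm0base, lm1base, lm2base, lm3base, lm4base, lm5base, lm6base]) :
    pt b ∈ gO := by
  obtain ⟨e, he, h⟩ := List.any_eq_true.1 (List.all_eq_true.1 bases_mem b hb)
  exact ⟨e, he, by rw [Nat.eq_of_beq_eq_true h]⟩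

theorem mem_cm6 {g : GL112} (hg : g ∈ gM)
    (h : ∀ b ∈ [lm0base, lm1base, lm2base, lm3base, lm4base, lm5base], g • pt b = pt b) :
    g ∈ rep.grp (cm6 : List (Level (ℕ × ℕ))) := by
  refine (rep.mem_grp_tail_iff cm5_ok).2 ⟨(rep.mem_grp_tail_iff cm4_ok).2 ⟨(rep.mem_grp_tail_iff
    cm3_ok).2 ⟨(rep.mem_grp_tail_iff cm2_ok).2 ⟨(rep.mem_grp_tail_iff cm1_ok).2
    ⟨(rep.mem_grp_tail_iff cm0_ok).2 ⟨hg, ?_⟩, ?_⟩, ?_⟩, ?_⟩, ?_⟩, ?_⟩ <;> rw [rep_pt]
  · exact h lm0base List.mem_cons_self
  · exact h lm1base (List.mem_cons_of_mem _ List.mem_cons_self)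
  · exact h lm2base (List.mem_cons_of_mem _ (List.mem_cons_of_mem _ List.mem_cons_self))
  · exact h lm3base (List.mem_cons_of_mem _ (List.mem_cons_of_mem _ (List.mem_cons_of_mem _ List.mem_cons_self)))
  · exact h lm4base (List.mem_cons_of_mem _ (List.mem_cons_of_mem _ (List.mem_cons_of_mem _ (List.mem_cons_of_mem _ List.mem_cons_self))))
  · exact h lm5base (List.mem_cons_of_mem _ (List.mem_cons_of_mem _ (List.mem_cons_of_mem _ (List.mem_cons_of_mem _ (List.mem_cons_of_mem _ List.mem_cons_self)))))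

theorem ker : ∀ g ∈ gC0, (∀ p ∈ gO, g • p = p) → g ∈ gN := by
  intro g hg hfix
  rcases C0_cases hg with hg | hg
  · refine (rep.mem_grp_tail_iff cm6_ok).2 ⟨mem_cm6 hg fun b hb => hfix _ (base_mem ?_), ?_⟩
    · simp only [List.mem_cons, List.not_mem_nil, or_false] at hb ⊢
      tauto
    · rw [rep_pt]; exact hfix _ (base_mem (b := lm6base) (List.mem_cons_of_mem _ (List.mem_cons_of_mem _ (List.mem_cons_of_mem _ (List.mem_cons_of_mem _ (List.mem_cons_of_mem _ (List.mem_cons_of_mem _ List.mem_cons_self)))))))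
  · exfalso
    obtain ⟨-, -, h3, -, h5⟩ := oks
    have hr : valP eR * (valP ea)⁻¹ ∈ gM := by
      rw [← valP_swap h3, ← valP_mul h5 (okP_swap h3)]; exact mem_ra
    have h1 : valP eR * g⁻¹ ∈ gM := by
      have := mul_mem hr (ea_conj (inv_mem hg))
      rwa [show valP eR * (valP ea)⁻¹ * (valP ea * ((valP ea)⁻¹ * g)⁻¹ * (valP ea)⁻¹) =
        valP eR * g⁻¹ by group] at this
    have hRfix : ∀ b ∈ [lm0base, lm1base, lm2base, lm3base, lm4base, lm5base],
        valP eR • pt b = pt b := fun b hb => by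
      rw [valP_smul h5, ← pt_vm, Nat.eq_of_beq_eq_true (List.all_eq_true.1 outer_fix b hb)]
    have hginv : ∀ p ∈ gO, g⁻¹ • p = p := fun p hp => inv_smul_eq_iff.2 (hfix p hp).symm
    have h6 := mem_cm6 h1 fun b hb => by
      rw [mul_smul, hginv _ (base_mem (by
        simp only [List.mem_cons, List.not_mem_nil, or_false] at hb ⊢; tauto)), hRfix b hb]
    obtain ⟨e, he, h⟩ := rep.smul_base_mem cm6_ok h6
    obtain ⟨e0, he0, hb0, -⟩ := (rep.levelFacts cm6_ok).base_entry
    have hout := outer_move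
    simp only [Bool.and_eq_true, Bool.not_eq_true'] at hout
    have hlen := Nat.eq_of_beq_eq_true hout.2
    have hee : e = e0 := by
      obtain ⟨a, ha⟩ := List.length_eq_one_iff.1 hlen
      have h' : ∀ {x : Entry (ℕ × ℕ)}, x ∈ lm6.orb.toList → x = a := fun {x} hx => by
        rw [ha] at hx; exact List.mem_singleton.1 hx
      exact (h' he).trans (h' he0).symm
    rw [hee, hb0, rep_pt] at h
    have hlm : lm6.base = lm6base := by rw [lm6]
    rw [hlm, mul_smul, hginv _ (base_mem (List.mem_cons_of_mem _ (List.mem_cons_of_mem _ (List.mem_cons_of_mem _ (List.mem_cons_of_mem _ (List.mem_cons_of_mem _ (List.mem_cons_of_mem _ List.mem_cons_self))))))), valP_smul h5, ← pt_vm] at h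
    have hlt : lm6base < 2 ^ 112 := by decide +kernel
    have := pt_injective (vm_bound _ _) hlt h
    rw [this, show Nat.beq lm6base lm6base = true from Nat.beq_refl _] at hout
    exact Bool.noConfusion hout.1.1

end Cfsg.Agent.Lib.J4Cent62
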