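import Cfsg.Agent.Lib.J4Cent62.FactsGroup
import Cfsg.Agent.Lib.J4Cent62.Check.Bar
import Cfsg.Agent.Lib.J4Cent62.Check.Homology

/-!
The group `Q`: normal form, irreducibility and commutators.
-/

set_option autoImplicit false
set_option maxRecDepth 100000
set_option exponentiation.threshold 13000

namespace Cfsg.Agent.Lib.J4Cent62

open Cfsg.Agent.Lib.Computation
open scoped Matrix MatrixGroups

attribute [local irreducible] J4Rep.mul vm powCode evFirst sameB

/-- The basis of `Q` modulo `z`. -/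
noncomputable def qv : List GL112 := qList.map valP

/-- The normal form. -/
noncomputable def qP (c : ℕ) : GL112 := prodQ qv c

theorem q_ok {q : ℕ × ℕ} (hq : q ∈ qList) : okP q = true :=
  ((Bool.and_eq_true _ _).mp (List.all_eq_true.1 q_mem q (List.mem_append_left _ hq))).1

theorem q_inQ {q : ℕ × ℕ} (hq : q ∈ qList) : valP q ∈ gQ :=
  mem_of_sift cq0_ok (q_ok hq)
    ((Bool.and_eq_true _ _).mp (List.all_eq_true.1 q_mem q (List.mem_append_left _ hq))).2

theorem ok_ez : okP ez = true := oks.2.2.2.1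

theorem ez_sq_beq : Nat.beq (mulP ez ez).1 J4Rep.one = true := by
  have h := seven_gens
  simp only [Bool.and_eq_true] at h
  exact h.1.2

theorem vz_sq : vz * vz = 1 := valP_sq_one (a := ez) ok_ez ez_sq_beq

theorem basis : Basis vz qv := by
  have h := q_basis
  simp only [Bool.and_eq_true, List.all_eq_true] at h
  refine ⟨vz_sq, fun q hq => ?_, fun q hq r hr => ?_, fun q hq => ?_⟩
  · obtain ⟨a, ha, rfl⟩ := List.mem_map.1 hq
    exact @comm_of_beq ez a ok_ez (q_ok ha) (h.1 a ha).1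
  · obtain ⟨a, ha, rfl⟩ := List.mem_map.1 hq
    obtain ⟨b, hb, rfl⟩ := List.mem_map.1 hr
    exact @relP_comm ez a b ok_ez (q_ok ha) (q_ok hb) (h.2 a ha b hb)
  · obtain ⟨a, ha, rfl⟩ := List.mem_map.1 hq
    exact @relP_sq ez a ok_ez (q_ok ha) (h.1 a ha).2

theorem qP_mem (c : ℕ) : qP c ∈ gQ :=
  Basis.mem_prod (fun q hq => by
    obtain ⟨a, ha, rfl⟩ := List.mem_map.1 hq
    exact q_inQ ha) c

theorem qP_zero : qP 0 = 1 := Basis.prod_zero _

theorem qP_xor (a b : ℕ) : RelZ vz (qP a * qP b) (qP (a ^^^ b)) := Basis.prod_xor basis a b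

theorem qP_zc (a : ℕ) : vz * qP a = qP a * vz := Basis.prod_zc basis a

theorem relZ_mul {a b : GL112} {c d : ℕ} (ha : RelZ vz a (qP c)) (hb : RelZ vz b (qP d)) :
    RelZ vz (a * b) (qP (c ^^^ d)) :=
  RelZ.trans (G := GL112) vz_sq (RelZ.mul (G := GL112) vz_sq (qP_zc d) ha hb) (qP_xor c d)

theorem relZ_mem {H : Subgroup GL112} (hz : vz ∈ H) {y a : GL112} (h : RelZ vz y a) (ha : a ∈ H) :
    y ∈ H := by
  rcases h with rfl | rfl
  · exact ha
  · exact mul_mem ha hz

theorem relZ_mem' {H : Subgroup GL112} (hz : vz ∈ H) {y a : GL112} (h : RelZ vz y a) (hy : y ∈ H) :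
    a ∈ H :=
  relZ_mem hz (RelZ.symm (G := GL112) vz_sq h) hy

theorem forall_mem_zip {α β : Type} {p : α → β → Prop} : ∀ {l : List α} {m : List β},
    l.length = m.length → (∀ x ∈ l.zip m, p x.1 x.2) → ∀ a ∈ l, ∃ b ∈ m, p a b
  | [], [], _, _, a, ha => by simp at ha
  | x :: l, [], h, _, _, _ => by simp at h
  | x :: l, y :: m, h, hp, a, ha => by
    rcases List.mem_cons.1 ha with rfl | ha
    · exact ⟨y, List.mem_cons_self, hp (a, y) List.mem_cons_self⟩
    · obtain ⟨b, hb, hb'⟩ := forall_mem_zip (by simpa using h)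
        (fun z hz => hp z (List.mem_cons_of_mem _ hz)) a ha
      exact ⟨b, List.mem_cons_of_mem _ hb, hb'⟩

theorem exists_form {y : GL112} (hy : y ∈ gQ) : ∃ c < 4096, RelZ vz y (qP c) := by
  unfold gQ Rep.grp at hy
  induction hy using Subgroup.closure_induction with
  | mem w hw =>
    obtain ⟨s, hs, rfl⟩ := hw
    have h := q_top
    simp only [Bool.and_eq_true, List.all_eq_true] at h
    obtain ⟨d, -, hd⟩ := forall_mem_zip
      (p := fun (s : ℕ × ℕ) d => relP ez s (prodP qList (d % 4096)) = true)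
      (Nat.eq_of_beq_eq_true h.1) h.2 s hs
    refine ⟨d % 4096, Nat.mod_lt _ (by norm_num), ?_⟩
    have hs' : okP s = true := (rep_ok s).symm.trans (rep.topGens_ok cq0_ok hs)
    have := @relP_prod ez s qList (d % 4096) ok_ez hs' (fun q hq => q_ok hq) hd
    exact (rep_val s).symm ▸ this
  | one => exact ⟨0, by norm_num, Or.inl qP_zero.symm⟩
  | mul a b _ _ ha hb =>
    obtain ⟨c, hc, ha⟩ := ha
    obtain ⟨d, hd, hb⟩ := hb
    exact ⟨c ^^^ d, Nat.xor_lt_two_pow (n := 12) hc hd, relZ_mul ha hb⟩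
  | inv a _ ha =>
    obtain ⟨c, hc, ha⟩ := ha
    refine ⟨c, hc, ?_⟩
    have h2 := relZ_mul ha ha
    rw [Nat.xor_self, qP_zero] at h2
    have hza : vz * a = a * vz := by
      rcases ha with rfl | rfl
      · exact qP_zc c
      · rw [← mul_assoc, qP_zc c]
    have h3 : RelZ vz a⁻¹ a := by
      rcases h2 with h | h
      · exact Or.inl (inv_eq_of_mul_eq_one_right h)
      · refine Or.inr (inv_eq_of_mul_eq_one_right ?_)
        rw [← mul_assoc, h, one_mul, vz_sq]
    exact RelZ.trans (G := GL112) vz_sq h3 ha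

theorem form_unique {c d : ℕ} (hc : c < 4096) (hd : d < 4096) (h : RelZ vz (qP c) (qP d)) :
    c = d := by
  haveI : Finite gQ := Nat.finite_of_card_ne_zero (by rw [card_gQ]; norm_num)
  let f : Fin 4096 × Bool → gQ := fun p =>
    ⟨qP p.1.1 * bif p.2 then vz else 1, mul_mem (qP_mem _) (by
      cases p.2 <;> simp [vz_mem, one_mem])⟩
  have hs : Function.Surjective f := by
    rintro ⟨y, hy⟩
    obtain ⟨e, he, h | h⟩ := exists_form hy
    · exact ⟨(⟨e, he⟩, false), Subtype.ext (by simp [f, h])⟩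
    · exact ⟨(⟨e, he⟩, true), Subtype.ext (by simp [f, h])⟩
  have hi : Function.Injective f :=
    (hs.bijective_of_nat_card_le (by
      rw [card_gQ, Nat.card_prod, Nat.card_fin, Nat.card_eq_fintype_card, Fintype.card_bool])).1
  rcases h with h | h
  · exact congrArg (fun p : Fin 4096 × Bool => p.1.1)
      (hi (a₁ := (⟨c, hc⟩, false)) (a₂ := (⟨d, hd⟩, false)) (Subtype.ext (by simp [f, h])))
  · exact congrArg (fun p : Fin 4096 × Bool => p.1.1)
      (hi (a₁ := (⟨c, hc⟩, false)) (a₂ := (⟨d, hd⟩, true)) (Subtype.ext (by simp [f, h])))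

theorem comm_eq_of {G : Type*} [Group G] {a b z : G} (hza : z * a = a * z) (hzb : z * b = b * z)
    (h : RelZ z (a * b) (b * a)) : a * b * a⁻¹ * b⁻¹ = 1 ∨ a * b * a⁻¹ * b⁻¹ = z := by
  rcases h with h | h
  · left; rw [h]; group
  · right
    rw [h, mul_assoc (b * a), (show Commute z a from hza).inv_right.eq]
    calc b * a * (a⁻¹ * z) * b⁻¹ = b * (z * b⁻¹) := by group
      _ = b * (b⁻¹ * z) := by rw [(show Commute z b from hzb).inv_right.eq]
      _ = z := by group

theorem zc_form {y : GL112} {e : ℕ} (he : RelZ vz y (qP e)) : vz * y = y * vz := by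
  rcases he with rfl | rfl
  · exact qP_zc e
  · rw [← mul_assoc, qP_zc e]

theorem qcomm : ∀ a ∈ gQ, ∀ b ∈ gQ, a * b * a⁻¹ * b⁻¹ = 1 ∨ a * b * a⁻¹ * b⁻¹ = vz := by
  intro a ha b hb
  obtain ⟨c, -, hc⟩ := exists_form ha
  obtain ⟨d, -, hd⟩ := exists_form hb
  have h1 := relZ_mul hc hd
  have h2 := relZ_mul hd hc
  rw [Nat.xor_comm] at h2
  exact @comm_eq_of GL112 _ a b vz (zc_form hc) (zc_form hd) (RelZ.trans (G := GL112) vz_sq h1 (RelZ.symm (G := GL112) vz_sq h2))

/-- The three generators of `C0`. -/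
def gens3 : List (ℕ × ℕ) := [sa, sb, ea]

/-- The value of a word in the generators. -/
noncomputable def wordVal : List ℕ → GL112
  | [] => 1
  | j :: w => wordVal w * valP (gens3.getD j (J4Rep.one, J4Rep.one))

theorem wordVal_mem : ∀ {w : List ℕ}, (∀ j ∈ w, j < 3) → wordVal w ∈ gC0
  | [], _ => one_mem _
  | j :: w, h => by
    refine mul_mem (wordVal_mem fun i hi => h i (List.mem_cons_of_mem _ hi)) (Subgroup.subset_closure ?_)
    have hj := h j List.mem_cons_self
    interval_cases j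
    · exact Or.inl rfl
    · exact Or.inr (Or.inl rfl)
    · exact Or.inr (Or.inr rfl)

theorem wordVal_memM : ∀ {w : List ℕ}, (∀ j ∈ w, j < 2) → wordVal w ∈ gM
  | [], _ => one_mem _
  | j :: w, h => by
    refine mul_mem (wordVal_memM fun i hi => h i (List.mem_cons_of_mem _ hi)) ?_
    have hj := h j List.mem_cons_self
    interval_cases j
    · exact mem_sa
    · exact mem_sb

theorem forall2_of_zip {α β γ : Type} (F : α → γ) (g : β → β) {p : γ → β → Prop} :
    ∀ {l : List α} {m : List β}, l.length = m.length → (∀ x ∈ l.zip m, p (F x.1) (g x.2)) →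
      List.Forall₂ p (l.map F) (m.map g)
  | [], [], _, _ => List.Forall₂.nil
  | x :: l, [], h, _ => by simp at h
  | [], y :: m, h, _ => by simp at h
  | x :: l, y :: m, h, hp => List.Forall₂.cons (hp (x, y) List.mem_cons_self)
      (forall2_of_zip F g (by simpa using h) fun z hz => hp z (List.mem_cons_of_mem _ hz))

theorem conj_gen {j : ℕ} (hj : j < 3) (c : ℕ) :
    RelZ vz (valP (gens3.getD j (J4Rep.one, J4Rep.one)) * qP c *
      (valP (gens3.getD j (J4Rep.one, J4Rep.one)))⁻¹) (qP (ap (qBar.getD j []) c)) := by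
  set g := gens3.getD j (J4Rep.one, J4Rep.one) with hg
  have hgok : okP g = true := by
    obtain ⟨h1, h2, h3, -⟩ := oks
    rw [hg]
    interval_cases j
    · exact h1
    · exact h2
    · exact h3
  have hmem : valP g ∈ gC0 := by
    have := wordVal_mem (w := [j]) (by simpa using hj)
    rwa [wordVal, wordVal, one_mul, ← hg] at this
  have hgz : valP g * vz = vz * valP g :=
    (Subgroup.mem_centralizer_iff.1 (C0_le hmem).2 vz rfl).symm
  have h := q_conj
  simp only [Bool.and_eq_true, List.all_eq_true] at h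
  have hlen : qRows.length = 3 := Nat.eq_of_beq_eq_true h.1
  have hz : (g, qRows.getD j []) ∈ [sa, sb, ea].zip qRows := by
    rw [List.mem_iff_getElem?]
    refine ⟨j, List.getElem?_zip_eq_some.2 ⟨?_, ?_⟩⟩
    · rw [hg, gens3]; interval_cases j <;> rfl
    · rw [List.getD_eq_getElem?_getD, List.getElem?_eq_getElem (by omega), Option.getD_some]
  obtain ⟨hl, hr⟩ := h.2 _ hz
  have hbar : qBar.getD j [] = (qRows.getD j []).map (· % 4096) := by
    rw [qBar, List.getD_eq_getElem?_getD, List.getD_eq_getElem?_getD, List.getElem?_map]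
    cases qRows[j]? <;> rfl
  rw [hbar]
  refine Basis.conj_ap basis hgz (forall2_of_zip valP (· % 4096) ?_ ?_) c
  · rw [Nat.eq_of_beq_eq_true hl]; rfl
  · intro x hx
    exact @relP_conj ez g x.1 qList (x.2 % 4096) ok_ez hgok (q_ok (List.of_mem_zip hx).1)
      (fun q hq => q_ok hq) (hr x hx)

theorem conj_word : ∀ {w : List ℕ}, (∀ j ∈ w, j < 3) → ∀ c,
    RelZ vz (wordVal w * qP c * (wordVal w)⁻¹) (qP (apWord qBar w c))
  | [], _, c => Or.inl (by simp [wordVal, apWord])
  | j :: w, h, c => by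
    have hw : ∀ i ∈ w, i < 3 := fun i hi => h i (List.mem_cons_of_mem _ hi)
    have h1 := RelZ.conj (wordVal w) (h := conj_gen (h j List.mem_cons_self) c) (hc :=
      (Subgroup.mem_centralizer_iff.1 (C0_le (wordVal_mem hw)).2 vz rfl).symm)
    have e : wordVal (j :: w) * qP c * (wordVal (j :: w))⁻¹ = wordVal w *
        (valP (gens3.getD j (J4Rep.one, J4Rep.one)) * qP c *
          (valP (gens3.getD j (J4Rep.one, J4Rep.one)))⁻¹) * (wordVal w)⁻¹ := by
      rw [wordVal]; group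
    rw [e]
    exact RelZ.trans (G := GL112) vz_sq h1 (conj_word hw _)

theorem norm_of_gens {G : Type*} [Group G] (Q : Subgroup G) [Finite Q] {S : Set G}
    (h : ∀ g ∈ S, ∀ q ∈ Q, g * q * g⁻¹ ∈ Q) :
    ∀ c ∈ Subgroup.closure S, ∀ q ∈ Q, c * q * c⁻¹ ∈ Q := by
  intro c hc
  induction hc using Subgroup.closure_induction with
  | mem g hg => exact h g hg
  | one => intro q hq; simpa using hq
  | mul a b _ _ ha hb =>
    intro q hq
    have := ha _ (hb q hq)
    rwa [show a * (b * q * b⁻¹) * a⁻¹ = a * b * q * (a * b)⁻¹ by group] at this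
  | inv a _ ha =>
    intro q hq
    have hsur : Function.Surjective (fun x : Q => (⟨a * x.1 * a⁻¹, ha x.1 x.2⟩ : Q)) :=
      Finite.surjective_of_injective fun x y hxy => by
        have := congrArg Subtype.val hxy
        exact Subtype.ext (mul_left_cancel (mul_right_cancel this))
    obtain ⟨x, hx⟩ := hsur ⟨q, hq⟩
    have hxq : a * x.1 * a⁻¹ = q := congrArg Subtype.val hx
    rw [← hxq, show a⁻¹ * (a * x.1 * a⁻¹) * a⁻¹⁻¹ = x.1 by group]
    exact x.2

theorem gen_norm {j : ℕ} (hj : j < 3) : ∀ q ∈ gQ,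
    valP (gens3.getD j (J4Rep.one, J4Rep.one)) * q *
      (valP (gens3.getD j (J4Rep.one, J4Rep.one)))⁻¹ ∈ gQ := by
  intro q hq
  have hmem := wordVal_mem (w := [j]) (by simpa using hj)
  rw [wordVal, wordVal, one_mul] at hmem
  have hgz : valP (gens3.getD j (J4Rep.one, J4Rep.one)) * vz =
      vz * valP (gens3.getD j (J4Rep.one, J4Rep.one)) :=
    (Subgroup.mem_centralizer_iff.1 (C0_le hmem).2 vz rfl).symm
  obtain ⟨c, -, hc⟩ := exists_form hq
  have h1 := @RelZ.conj GL112 _ vz q (qP c) (valP (gens3.getD j (J4Rep.one, J4Rep.one))) hgz hc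
  exact relZ_mem vz_mem (RelZ.trans (G := GL112) vz_sq h1 (conj_gen hj c)) (qP_mem _)

theorem normQ : ∀ c ∈ gC0, ∀ q ∈ gQ, c * q * c⁻¹ ∈ gQ := by
  haveI : Finite gQ := Nat.finite_of_card_ne_zero (by rw [card_gQ]; norm_num)
  refine norm_of_gens (G := GL112) gQ fun g hg => ?_
  rw [Set.mem_insert_iff, Set.mem_insert_iff, Set.mem_singleton_iff] at hg
  rcases hg with rfl | rfl | rfl
  · exact gen_norm (j := 0) (by norm_num)
  · exact gen_norm (j := 1) (by norm_num)
  · exact gen_norm (j := 2) (by norm_num)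

theorem zc_C0 {g : GL112} (hg : g ∈ gC0) : g * vz = vz * g :=
  (Subgroup.mem_centralizer_iff.1 (C0_le hg).2 vz rfl).symm

theorem conj_inv_mem {H : Subgroup GL112} (hn : ∀ c ∈ gC0, ∀ h ∈ H, c * h * c⁻¹ ∈ H) {w : List ℕ}
    (hw : ∀ j ∈ w, j < 3) {y : GL112} (hy : wordVal w * y * (wordVal w)⁻¹ ∈ H) : y ∈ H := by
  have := hn _ (inv_mem (wordVal_mem hw)) _ hy
  rwa [show (wordVal w)⁻¹ * (wordVal w * y * (wordVal w)⁻¹) * (wordVal w)⁻¹⁻¹ = y by group] at this

theorem foldr_xor_mem {H : Subgroup GL112} (hz : vz ∈ H) : ∀ {l : List ℕ},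
    (∀ c ∈ l, qP c ∈ H) → qP (l.foldr Nat.xor 0) ∈ H
  | [], _ => by rw [List.foldr_nil, qP_zero]; exact one_mem H
  | c :: l, h => relZ_mem' hz (qP_xor c (l.foldr Nat.xor 0))
      (mul_mem (h c List.mem_cons_self)
        (foldr_xor_mem hz fun d hd => h d (List.mem_cons_of_mem _ hd)))

theorem prodQ_two_pow : ∀ (l : List GL112) (i : ℕ), prodQ l (2 ^ i) = l.getD i 1
  | [], i => by simp [prodQ]
  | q :: l, 0 => by simp [prodQ, Basis.prod_zero]
  | q :: l, i + 1 => by
    rw [prodQ, List.getD_cons_succ, ← prodQ_two_pow l i, pow_succ,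
      Nat.mul_div_cancel _ (by norm_num)]
    simp [Nat.testBit_zero]

theorem all_of_bits {H : Subgroup GL112} (hz : vz ∈ H) (h : ∀ i < 12, qP (2 ^ i) ∈ H) :
    gQ ≤ H := by
  intro y hy
  obtain ⟨c, -, hc⟩ := exists_form hy
  refine relZ_mem hz hc (Basis.mem_prod (fun q hq => ?_) c)
  obtain ⟨i, hi, rfl⟩ := List.getElem_of_mem hq
  have := h i (by simpa [qv, qList] using hi)
  rwa [qP, prodQ_two_pow, List.getD_eq_getElem?_getD, List.getElem?_eq_getElem hi,
    Option.getD_some] at this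

/-- The chosen element of `Q`. -/
noncomputable def vq0 : GL112 := qP (qRoots.getD 0 0)

theorem irr : ∀ H : Subgroup GL112, H ≤ gQ → vz ∈ H →
    (∀ c ∈ gC0, ∀ h ∈ H, c * h * c⁻¹ ∈ H) → (∀ h ∈ H, h = 1 ∨ h = vz) ∨ H = gQ := by
  intro H hHQ hzH hn
  by_cases hall : ∀ h ∈ H, h = 1 ∨ h = vz
  · exact Or.inl hall
  refine Or.inr (le_antisymm hHQ ?_)
  push Not at hall
  obtain ⟨y, hyH, hy1, hy2⟩ := hall
  obtain ⟨c, hc, hcy⟩ := exists_form (hHQ hyH)
  have hc0 : c ≠ 0 := by
    rintro rfl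
    rw [qP_zero] at hcy
    rcases hcy with h | h
    · exact hy1 h
    · exact hy2 (h.trans (one_mul _))
  have hPc : qP c ∈ H := relZ_mem' hzH hcy hyH
  obtain ⟨htree, hlen⟩ := qTree_ok
  have hmem : (qTree[c - 1]'(by omega), c - 1) ∈ qTree.zip (List.range 4095) := by
    rw [List.mem_iff_getElem?]
    exact ⟨c - 1, List.getElem?_zip_eq_some.2
      ⟨List.getElem?_eq_getElem (by omega), List.getElem?_range (by omega)⟩⟩
  have h1 := List.all_eq_true.1 htree _ hmem
  simp only [Bool.and_eq_true, List.all_eq_true, Nat.blt, Nat.ble_eq] at h1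
  obtain ⟨⟨hw, hidx⟩, he⟩ := h1
  have he' := Nat.eq_of_beq_eq_true he
  set w := (entry 4 (qTree[c - 1]'(by omega))).1 with hwdef
  set k := (entry 4 (qTree[c - 1]'(by omega))).2 with hkdef
  have hroot : qP (qRoots.getD k 0) ∈ H := by
    refine conj_inv_mem hn (w := w) (fun j hj => hw j hj) (relZ_mem hzH (conj_word (fun j hj => hw j hj) _) ?_)
    rw [he', show c - 1 + 1 = c by omega]
    exact hPc
  refine all_of_bits hzH fun i hi => ?_
  obtain ⟨hspan, hslen⟩ := qSpan_ok
  have hk : k < qRoots.length := hidx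
  have hm2 : (qSpan[k]'(by omega), qRoots.getD k 0) ∈ qSpan.zip qRoots := by
    rw [List.mem_iff_getElem?]
    refine ⟨k, List.getElem?_zip_eq_some.2 ⟨List.getElem?_eq_getElem (by omega), ?_⟩⟩
    rw [List.getD_eq_getElem?_getD, List.getElem?_eq_getElem hk, Option.getD_some]
  have h2 := List.all_eq_true.1 hspan _ hm2
  simp only [Bool.and_eq_true, List.all_eq_true] at h2
  have hl := Nat.eq_of_beq_eq_true h2.1
  obtain ⟨h3, h4⟩ := h2.2 ((qSpan[k]'(by omega))[i]'(by omega), i) (by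
    rw [List.mem_iff_getElem?]
    exact ⟨i, List.getElem?_zip_eq_some.2
      ⟨List.getElem?_eq_getElem (by omega), List.getElem?_range hi⟩⟩)
  rw [← Nat.eq_of_beq_eq_true h4]
  refine foldr_xor_mem hzH fun d hd => ?_
  obtain ⟨a, ha, rfl⟩ := List.mem_map.1 hd
  have hwa : ∀ j ∈ decode 4 64 a, j < 3 := fun j hj => Nat.le_of_ble_eq_true (h3 a ha j hj)
  exact relZ_mem' hzH (conj_word hwa _) (hn _ (wordVal_mem hwa) _ hroot)

theorem q0span : gQ ≤ Subgroup.closure ({vz} ∪ {y | ∃ m ∈ gM, y = m * vq0 * m⁻¹}) := by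
  have hz : vz ∈ Subgroup.closure ({vz} ∪ {y | ∃ m ∈ gM, y = m * vq0 * m⁻¹}) :=
    Subgroup.subset_closure (Or.inl rfl)
  refine all_of_bits hz fun i hi => ?_
  have h := qSpan_M
  simp only [Bool.and_eq_true, List.all_eq_true] at h
  have hl := Nat.eq_of_beq_eq_true h.1
  obtain ⟨h3, h4⟩ := h.2 (qSpanM[i]'(by omega), i) (by
    rw [List.mem_iff_getElem?]
    exact ⟨i, List.getElem?_zip_eq_some.2
      ⟨List.getElem?_eq_getElem (by omega), List.getElem?_range hi⟩⟩)
  rw [← Nat.eq_of_beq_eq_true h4]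
  refine foldr_xor_mem hz fun d hd => ?_
  obtain ⟨a, ha, rfl⟩ := List.mem_map.1 hd
  have hwa : ∀ j ∈ decode 4 64 a, j < 2 := fun j hj => Nat.le_of_ble_eq_true (h3 a ha j hj)
  refine relZ_mem' hz (conj_word (fun j hj => (hwa j hj).trans (by norm_num)) _) ?_
  exact Subgroup.subset_closure (Or.inr ⟨wordVal (decode 4 64 a), wordVal_memM hwa, rfl⟩)

theorem qBar_bound : (qBar.all fun r => r.all fun x => Nat.blt x 4096) = true := by decide +kernel

theorem roots_bound : (qRoots.all fun x => Nat.blt x 4096) = true := by decide +kernel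

theorem ap_lt : ∀ {r : List ℕ}, (∀ x ∈ r, x < 2 ^ 12) → ∀ c, ap r c < 2 ^ 12
  | [], _, _ => Nat.two_pow_pos 12
  | x :: r, h, c => by
    show (bif Nat.testBit c 0 then x else 0) ^^^ ap r (c / 2) < 2 ^ 12
    refine Nat.xor_lt_two_pow ?_ (ap_lt (fun y hy => h y (List.mem_cons_of_mem _ hy)) _)
    cases Nat.testBit c 0
    · exact Nat.two_pow_pos 12
    · exact h x List.mem_cons_self

theorem apWord_lt : ∀ {w : List ℕ} {c : ℕ}, c < 4096 → apWord qBar w c < 4096
  | [], _, hc => hc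
  | j :: w, c, _ => by
    show apWord qBar w (ap (qBar.getD j []) c) < 4096
    refine apWord_lt (ap_lt (fun x hx => ?_) c)
    rw [List.getD_eq_getElem?_getD] at hx
    cases hj : qBar[j]? with
    | none => rw [hj] at hx; simp at hx
    | some r =>
      rw [hj, Option.getD_some] at hx
      have := List.all_eq_true.1 (List.all_eq_true.1 qBar_bound r (List.mem_of_getElem? hj)) x hx
      simpa [Nat.blt] using this

theorem qfix : ∃ T : Finset GL112, T.card < 11 ∧ ∀ y ∈ gQ,
    (∀ m ∈ gM, (m * vq0 * m⁻¹ = vq0 ∨ m * vq0 * m⁻¹ = vq0 * vz) →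
      (m * y * m⁻¹ = y ∨ m * y * m⁻¹ = y * vz)) → y ∈ T := by
  classical
  refine ⟨(qFix.map fun c => qP c).toFinset ∪ (qFix.map fun c => qP c * vz).toFinset, ?_, ?_⟩
  · refine lt_of_le_of_lt (Finset.card_union_le _ _) ?_
    have h1 := List.toFinset_card_le (qFix.map fun c => qP c)
    have h2 := List.toFinset_card_le (qFix.map fun c => qP c * vz)
    rw [List.length_map] at h1 h2
    have := qFix_ok.2
    omega
  intro y hy hfix
  obtain ⟨c, hc, hcy⟩ := exists_form hy
  have h := qFix_ok.1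
  simp only [Bool.and_eq_true, List.all_eq_true, Bool.or_eq_true, Bool.not_eq_true',
    List.contains_iff_mem] at h
  have hcf : c ∈ qFix := by
    rcases h.2 c (List.mem_range.2 hc) with h' | h'
    · exfalso
      obtain ⟨a, ha, hne⟩ := List.all_eq_false.1 h'
      apply hne
      obtain ⟨hwa, hr⟩ := h.1 a ha
      have hw2 : ∀ j ∈ decode 4 64 a, j < 2 := fun j hj => Nat.le_of_ble_eq_true (hwa j hj)
      have hw3 : ∀ j ∈ decode 4 64 a, j < 3 := fun j hj => (hw2 j hj).trans (by norm_num)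
      have hst : RelZ vz (wordVal (decode 4 64 a) * vq0 * (wordVal (decode 4 64 a))⁻¹) vq0 := by
        have := conj_word hw3 (qRoots.getD 0 0)
        rwa [Nat.eq_of_beq_eq_true hr] at this
      have h5 : RelZ vz (wordVal (decode 4 64 a) * y * (wordVal (decode 4 64 a))⁻¹) y :=
        hfix _ (wordVal_memM hw2) hst
      have h6a := @RelZ.conj GL112 _ vz y (qP c) (wordVal (decode 4 64 a))
        (zc_C0 (wordVal_mem hw3)) hcy
      have h6 := RelZ.trans (G := GL112) vz_sq h6a (conj_word hw3 c)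
      have h7 := RelZ.trans (G := GL112) vz_sq (RelZ.trans (G := GL112) vz_sq (RelZ.symm (G := GL112) vz_sq h6) h5) hcy
      rw [form_unique (apWord_lt hc) hc h7]
      exact Nat.beq_refl c
    · exact h'
  rcases hcy with rfl | rfl
  · exact Finset.mem_union_left _ (List.mem_toFinset.2 (List.mem_map.2 ⟨c, hcf, rfl⟩))
  · exact Finset.mem_union_right _ (List.mem_toFinset.2 (List.mem_map.2 ⟨c, hcf, rfl⟩))

theorem noncomm : ∃ a ∈ gQ, ∃ b ∈ gQ, a * b ≠ b * a := by
  obtain ⟨a, ha, h⟩ := List.any_eq_true.1 q_noncomm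
  obtain ⟨b, hb, h⟩ := List.any_eq_true.1 h
  refine ⟨valP a, q_inQ ha, valP b, q_inQ hb, fun e => ?_⟩
  rw [← valP_mul (q_ok ha) (q_ok hb), ← valP_mul (q_ok hb) (q_ok ha)] at e
  have e' := congrArg (fun g : GL112 => ((g⁻¹ : GL112) : J4Rep.Mat112)) e
  simp only [(valP_val (okP_mul (q_ok ha) (q_ok hb))).2, (valP_val (okP_mul (q_ok hb) (q_ok ha))).2] at e'
  rw [sameB_iff.2 e'] at h
  exact absurd h Bool.false_ne_true

theorem triv_of_prod {z : GL112} {l : List GL112} (hl : ∀ g ∈ l, g * z = z * g ∧ Triv Row z g)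
    (hz : Triv Row z z) {y : GL112} {c : ℕ} (h : RelZ z y (prodQ l c)) : Triv Row z y := by
  let K : Subgroup GL112 :=
    { carrier := {g | g * z = z * g ∧ Triv Row z g}
      one_mem' := ⟨by simp, fun w _ => ⟨0, by rw [one_smul, smul_zero, add_zero, add_zero]⟩⟩
      mul_mem' := fun {a b} ha hb =>
        ⟨by rw [mul_assoc, hb.1, ← mul_assoc, ha.1, mul_assoc], @Triv.mul GL112 Row _ _ _ z row_two a b ha.1 ha.2 hb.2⟩
      inv_mem' := fun {a} ha => ⟨by rw [eq_mul_inv_iff_mul_eq, mul_assoc, ← ha.1, ← mul_assoc, inv_mul_cancel, one_mul], @Triv.inv GL112 Row _ _ _ z row_two a ha.1 ha.2⟩ }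
  have hp : prodQ l c ∈ K := Basis.mem_prod hl c
  rcases h with rfl | rfl
  · exact hp.2
  · exact (mul_mem hp (show z ∈ K from ⟨rfl, hz⟩)).2

theorem triv_gen {q : ℕ × ℕ} (hq : q ∈ qList ++ [ez]) : Triv Row vz (valP q) := by
  obtain ⟨d, -, hd⟩ := forall_mem_zip
    (p := fun (q : ℕ × ℕ) (d : ℕ × ℕ) => trivCert ez.1 q.1 d.1 d.2 = true)
    (by rw [triv_ok.2]; rfl) (fun x hx => List.all_eq_true.1 triv_ok.1 x hx) q hq
  exact @triv_of_cert ez q d.1 d.2 ok_ez
    ((Bool.and_eq_true _ _).mp (List.all_eq_true.1 q_mem q hq)).1 hd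

theorem qv_triv : ∀ g ∈ qv, g * vz = vz * g ∧ Triv Row vz g := by
  intro g hg
  obtain ⟨a, ha, hag⟩ := List.mem_map.1 hg
  refine ⟨(basis.zc g hg).symm, ?_⟩
  rw [← hag]
  exact triv_gen (List.mem_append_left _ ha)

theorem trivQ : ∀ q ∈ gQ, Triv Row vz q := by
  intro q hq
  obtain ⟨c, -, hc⟩ := exists_form hq
  have hz := triv_gen (q := ez) (List.mem_append_right _ List.mem_cons_self)
  exact triv_of_prod qv_triv hz hc

end Cfsg.Agent.Lib.J4Cent62
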