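import Cfsg.Agent.Lib.J4Cent62.Check.M0
import Cfsg.Agent.Lib.J4Cent62.Check.M1
import Cfsg.Agent.Lib.J4Cent62.Check.M2
import Cfsg.Agent.Lib.J4Cent62.Check.M3
import Cfsg.Agent.Lib.J4Cent62.Check.M4
import Cfsg.Agent.Lib.J4Cent62.Check.M5
import Cfsg.Agent.Lib.J4Cent62.Check.M6
import Cfsg.Agent.Lib.J4Cent62.Check.M7
import Cfsg.Agent.Lib.J4Cent62.Check.M8
import Cfsg.Agent.Lib.J4Cent62.Check.M9
import Cfsg.Agent.Lib.J4Cent62.Check.M10
import Cfsg.Agent.Lib.J4Cent62.Check.M11
import Cfsg.Agent.Lib.J4Cent62.Check.M12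
import Cfsg.Agent.Lib.J4Cent62.Check.Q
import Cfsg.Agent.Lib.J4Cent62.Check.Gens
import Cfsg.Agent.Lib.J4Cent62.Check.Sift
import Cfsg.Agent.Lib.J4Cent62.Check.QForm

/-!
The groups `C0`, `M`, `N`, `Q` and their basic properties.
-/

set_option autoImplicit false
set_option maxRecDepth 100000
set_option exponentiation.threshold 13000

namespace Cfsg.Agent.Lib.J4Cent62

open Cfsg.Agent.Lib.Computation
open scoped Matrix MatrixGroups

theorem rep_val (c : ℕ × ℕ) : rep.val c = valP c := by simp only [rep]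

theorem rep_ok (c : ℕ × ℕ) : rep.ok c = okP c := by simp only [rep]

theorem rep_act (c : ℕ × ℕ) (x : ℕ) : rep.act c x = vm x c.1 := by simp only [rep]

theorem rep_pt (x : ℕ) : rep.pt x = pt x := by simp only [rep]

theorem chain_cons {L : Level (ℕ × ℕ)} {c : List (Level (ℕ × ℕ))} (h1 : rep.checkChain c = true)
    (h2 : rep.checkLevel L c = true) : rep.checkChain (L :: c : List (Level (ℕ × ℕ))) = true := by
  show (rep.checkChain c && rep.checkLevel L c) = true
  rw [h1, h2]; rfl

theorem cm12_ok : rep.checkChain (cm12 : List (Level (ℕ × ℕ))) = true := chain_cons rfl lm12_ok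

theorem cm11_ok : rep.checkChain (cm11 : List (Level (ℕ × ℕ))) = true := chain_cons cm12_ok lm11_ok

theorem cm10_ok : rep.checkChain (cm10 : List (Level (ℕ × ℕ))) = true := chain_cons cm11_ok lm10_ok

theorem cm9_ok : rep.checkChain (cm9 : List (Level (ℕ × ℕ))) = true := chain_cons cm10_ok lm9_ok

theorem cm8_ok : rep.checkChain (cm8 : List (Level (ℕ × ℕ))) = true := chain_cons cm9_ok lm8_ok

theorem cm7_ok : rep.checkChain (cm7 : List (Level (ℕ × ℕ))) = true := chain_cons cm8_ok lm7_ok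

theorem cm6_ok : rep.checkChain (cm6 : List (Level (ℕ × ℕ))) = true := chain_cons cm7_ok lm6_ok

theorem cm5_ok : rep.checkChain (cm5 : List (Level (ℕ × ℕ))) = true := chain_cons cm6_ok lm5_ok

theorem cm4_ok : rep.checkChain (cm4 : List (Level (ℕ × ℕ))) = true := chain_cons cm5_ok lm4_ok

theorem cm3_ok : rep.checkChain (cm3 : List (Level (ℕ × ℕ))) = true := chain_cons cm4_ok lm3_ok

theorem cm2_ok : rep.checkChain (cm2 : List (Level (ℕ × ℕ))) = true := chain_cons cm3_ok lm2_ok

theorem cm1_ok : rep.checkChain (cm1 : List (Level (ℕ × ℕ))) = true := chain_cons cm2_ok lm1_ok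

theorem cm0_ok : rep.checkChain (cm0 : List (Level (ℕ × ℕ))) = true := chain_cons cm1_ok lm0_ok

theorem cq5_ok : rep.checkChain (cq5 : List (Level (ℕ × ℕ))) = true := chain_cons rfl lq5_ok

theorem cq4_ok : rep.checkChain (cq4 : List (Level (ℕ × ℕ))) = true := chain_cons cq5_ok lq4_ok

theorem cq3_ok : rep.checkChain (cq3 : List (Level (ℕ × ℕ))) = true := chain_cons cq4_ok lq3_ok

theorem cq2_ok : rep.checkChain (cq2 : List (Level (ℕ × ℕ))) = true := chain_cons cq3_ok lq2_ok

theorem cq1_ok : rep.checkChain (cq1 : List (Level (ℕ × ℕ))) = true := chain_cons cq2_ok lq1_ok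

theorem cq0_ok : rep.checkChain (cq0 : List (Level (ℕ × ℕ))) = true := chain_cons cq1_ok lq0_ok

-- The involution.
scoped notation "vz" => (valP ez : GL112)

/-- The group `M`. -/
noncomputable def gM : Subgroup GL112 := rep.grp (cm0 : List (Level (ℕ × ℕ)))

/-- The group `N`. -/
noncomputable def gN : Subgroup GL112 := rep.grp (cm7 : List (Level (ℕ × ℕ)))

/-- The group `Q`. -/
noncomputable def gQ : Subgroup GL112 := rep.grp (cq0 : List (Level (ℕ × ℕ)))

theorem oks : okP sa = true ∧ okP sb = true ∧ okP ea = true ∧ okP ez = true ∧ okP eR = true := by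
  simpa [List.all_cons, Bool.and_eq_true] using oks_gens

theorem mem_of_sift {c : List (Level (ℕ × ℕ))} (hc : rep.checkChain c = true) {g : ℕ × ℕ}
    (hg : okP g = true) (h : rep.sift c g = true) : valP g ∈ rep.grp c :=
  rep_val g ▸ rep.mem_grp_of_sift hc (h := g) ((rep_ok g).trans hg) h

theorem sift_all {g : ℕ × ℕ} (hg : g ∈ [sa, sb, ez, mulP ea ea, mulP (mulP ea sa) (swapP ea),
    mulP (mulP ea sb) (swapP ea), mulP eR (swapP ea)]) : valP g ∈ gM := by
  obtain ⟨h1, h2, h3, h4, h5⟩ := oks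
  refine mem_of_sift cm0_ok ?_ (List.all_eq_true.1 sift_gens g hg)
  simp only [List.mem_cons, List.not_mem_nil, or_false] at hg
  rcases hg with rfl | rfl | rfl | rfl | rfl | rfl | rfl
  · exact h1
  · exact h2
  · exact h4
  · exact okP_mul h3 h3
  · exact okP_mul (okP_mul h3 h1) (okP_swap h3)
  · exact okP_mul (okP_mul h3 h2) (okP_swap h3)
  · exact okP_mul h5 (okP_swap h3)

theorem gM_eq : gM = Subgroup.closure {valP sa, valP sb} := by
  obtain ⟨h1, h2, -⟩ := oks
  have h : rep.checkClosure ([sa, sb] : List (ℕ × ℕ)) prog cm0 = true := by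
    simp only [Rep.checkClosure, Bool.and_eq_true]
    refine ⟨⟨cm0_ok, List.all_eq_true.2 fun g hg => ?_⟩, prog_ok⟩
    simp only [Bool.and_eq_true]
    rcases List.mem_cons.1 hg with rfl | hg
    · exact ⟨(rep_ok sa).trans h1, List.all_eq_true.1 sift_gens sa List.mem_cons_self⟩
    · rw [List.mem_singleton.1 hg]
      exact ⟨(rep_ok sb).trans h2,
        List.all_eq_true.1 sift_gens sb (List.mem_cons_of_mem _ List.mem_cons_self)⟩
  have e : rep.val '' {s | s ∈ ([sa, sb] : List (ℕ × ℕ))} = {valP sa, valP sb} := by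
    ext g
    rw [Set.mem_insert_iff, Set.mem_singleton_iff]
    constructor
    · rintro ⟨s, hs, rfl⟩
      rcases List.mem_cons.1 hs with rfl | hs
      · exact Or.inl (rep_val sa)
      · rw [List.mem_singleton.1 hs]; exact Or.inr (rep_val sb)
    · intro hg
      rcases hg with hg | hg
      · exact ⟨sa, List.mem_cons_self, (rep_val sa).trans hg.symm⟩
      · exact ⟨sb, List.mem_cons_of_mem _ List.mem_cons_self, (rep_val sb).trans hg.symm⟩
  rw [← e]
  exact (rep.closure_eq_grp h).symm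

theorem card_gM : Nat.card gM = 10899947520 := (rep.card_grp cm0_ok).trans orders_ok.1

theorem card_gN : Nat.card gN = 24576 := (rep.card_grp cm7_ok).trans orders_ok.2.1

theorem card_gQ : Nat.card gQ = 8192 := (rep.card_grp cq0_ok).trans orders_ok.2.2

theorem gN_le : gN ≤ gM :=
  (rep.grp_tail_le cm6_ok).trans ((rep.grp_tail_le cm5_ok).trans ((rep.grp_tail_le cm4_ok).trans ((rep.grp_tail_le cm3_ok).trans
    ((rep.grp_tail_le cm2_ok).trans ((rep.grp_tail_le cm1_ok).trans (rep.grp_tail_le cm0_ok))))))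

theorem gQ_le : gQ ≤ gN := by
  refine (Subgroup.closure_le _).2 ?_
  rintro _ ⟨s, hs, rfl⟩
  exact rep.mem_grp_of_sift cm7_ok (rep.topGens_ok cq0_ok hs) (List.all_eq_true.1 q_le s hs)

theorem vz_mem : vz ∈ gQ :=
  mem_of_sift cq0_ok oks.2.2.2.1
    (Bool.and_eq_true _ _ |>.mp (List.all_eq_true.1 q_mem ez (by simp))).2

end Cfsg.Agent.Lib.J4Cent62
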