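import Cfsg.Agent.Lib.J4Rep.Code
import Cfsg.Agent.Lib.Computation.StabChain
import Cfsg.Agent.Lib.Computation.PermCode

/-!
Pairs of mutually inverse coded matrices as a representation acting on row vectors.
-/

set_option autoImplicit false
set_option exponentiation.threshold 13000

namespace Cfsg.Agent.Lib.J4Cent62

open Cfsg.Agent.Lib.J4Rep
open Cfsg.Agent.Lib.Computation
open scoped Matrix MatrixGroups

/-- Row vectors. -/
def Row : Type := Fin 112 → ZMod 2

instance : AddCommGroup Row := inferInstanceAs (AddCommGroup (Fin 112 → ZMod 2))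
instance : Finite Row := inferInstanceAs (Finite (Fin 112 → ZMod 2))

/-- A row vector times a matrix. -/
def times (v : Row) (A : Mat112) : Row := Matrix.vecMul (v : Fin 112 → ZMod 2) A

theorem times_mul (v : Row) (A B : Mat112) : times v (A * B) = times (times v A) B :=
  (Matrix.vecMul_vecMul _ A B).symm

theorem times_one (v : Row) : times v 1 = v := Matrix.vecMul_one _

theorem times_add (v w : Row) (A : Mat112) : times (v + w) A = times v A + times w A :=
  Matrix.add_vecMul A _ _

theorem add_times (v : Row) (A B : Mat112) : times v (A + B) = times v A + times v B :=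
  Matrix.vecMul_add A B _

theorem times_zero (v : Row) : times v 0 = 0 := Matrix.vecMul_zero _

theorem zero_times (A : Mat112) : times 0 A = 0 := Matrix.zero_vecMul _

/-- Matrices act on row vectors through the inverse. -/
instance : MulAction (GL (Fin 112) (ZMod 2)) Row where
  smul g v := times v ((g⁻¹ : GL (Fin 112) (ZMod 2)) : Mat112)
  one_smul v := by
    show times v ((1⁻¹ : GL (Fin 112) (ZMod 2)) : Mat112) = v
    rw [inv_one, Units.val_one, times_one]
  mul_smul g h v := by
    show times v (((g * h)⁻¹ : GL (Fin 112) (ZMod 2)) : Mat112) = times (times v _) _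
    rw [mul_inv_rev, Units.val_mul, times_mul]

theorem smul_eq (g : GL (Fin 112) (ZMod 2)) (v : Row) :
    g • v = times v ((g⁻¹ : GL (Fin 112) (ZMod 2)) : Mat112) := rfl

/-- A coded vector. -/
def pt (x : ℕ) : Row := fun j => bit (x.testBit j.1)

/-- A coded vector times a coded matrix. -/
def vm (x A : ℕ) : ℕ := mulAux (ones 1) A x 112

theorem vm_lt (x A : ℕ) : ∀ n, mulAux (ones 1) A x n < 2 ^ 112
  | 0 => Nat.two_pow_pos 112
  | n + 1 => by
    refine Nat.xor_lt_two_pow (vm_lt x A n) ?_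
    show Nat.land (x >>> n) (ones 1) * lane A n < 2 ^ 112
    have h1 : ones 1 = 2 ^ 1 - 1 := by rfl
    rw [h1, show Nat.land (x >>> n) (2 ^ 1 - 1) = (x >>> n) % 2 ^ 1 from Nat.and_two_pow_sub_one_eq_mod _ 1]
    rcases Nat.mod_two_eq_zero_or_one (x >>> n) with h | h <;> rw [pow_one, h]
    · rw [Nat.zero_mul]; exact Nat.two_pow_pos 112
    · rw [Nat.one_mul]; exact lane_lt A n

theorem bit_vm (A x : ℕ) {j : ℕ} (hj : j < 112) :
    ∀ n ≤ 112, bit ((mulAux (ones 1) A x n).testBit j) =
      ∑ k ∈ Finset.range n, bit (x.testBit k) * bit ((lane A k).testBit j)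
  | 0, _ => by simp [mulAux, bit]
  | n + 1, hn => by
    rw [Finset.sum_range_succ, ← bit_vm A x hj n (by omega)]
    show bit ((mulAux (ones 1) A x n ^^^ Nat.land (x >>> n) (ones 1) * lane A n).testBit j) = _
    have h1 : ones 1 = 2 ^ 1 - 1 := by rfl
    rw [Nat.testBit_xor, bit_xor, h1,
      show Nat.land (x >>> n) (2 ^ 1 - 1) = (x >>> n) % 2 ^ 1 from Nat.and_two_pow_sub_one_eq_mod _ 1,
      pow_one, Nat.shiftRight_eq_div_pow, ← Nat.toNat_testBit]
    cases x.testBit n <;> simp [bit]

theorem pt_vm (x A : ℕ) : pt (vm x A) = times (pt x) (val A) := by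
  funext j
  show bit ((mulAux (ones 1) A x 112).testBit j.1) = _
  rw [bit_vm A x j.2 112 le_rfl, Finset.sum_range]
  rfl

theorem bit_injective : Function.Injective bit := by
  intro a b h
  cases a <;> cases b <;> first | rfl | exact absurd h (by decide)

theorem pt_injective {x y : ℕ} (hx : x < 2 ^ 112) (hy : y < 2 ^ 112) (h : pt x = pt y) : x = y := by
  apply Nat.eq_of_testBit_eq
  intro i
  by_cases hi : i < 112
  · exact bit_injective (congrFun h ⟨i, hi⟩)
  · rw [Nat.testBit_lt_two_pow (lt_of_lt_of_le hx (Nat.pow_le_pow_right (by norm_num) (by omega))),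
      Nat.testBit_lt_two_pow (lt_of_lt_of_le hy (Nat.pow_le_pow_right (by norm_num) (by omega)))]

theorem exists_pt (v : Row) : ∃ x < 2 ^ 112, pt x = v := by
  have hf : Function.Injective (fun k : Fin (2 ^ 112) => pt k.1) :=
    fun a b h => Fin.ext (pt_injective a.2 b.2 h)
  have hc : Nat.card Row = Nat.card (Fin (2 ^ 112)) := by
    show Nat.card (Fin 112 → ZMod 2) = _
    rw [Nat.card_fin, Nat.card_fun, Nat.card_zmod, Nat.card_fin]
  obtain ⟨k, hk⟩ := ((Nat.bijective_iff_injective_and_card _).2 ⟨hf, hc.symm⟩).2 v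
  exact ⟨k.1, k.2, hk⟩

/-- All lanes agree. -/
def sameB (A B : ℕ) : Bool := (List.range 112).all fun i => Nat.beq (lane A i) (lane B i)

theorem sameB_iff {A B : ℕ} : sameB A B = true ↔ val A = val B := by
  simp only [sameB, List.all_eq_true, List.mem_range, Nat.beq_eq]
  refine ⟨fun h => ?_, fun h i hi => ?_⟩
  · ext i j
    show bit _ = bit _
    rw [h i.1 i.2]
  · apply Nat.eq_of_testBit_eq
    intro j
    by_cases hj : j < 112
    · exact bit_injective (congrFun (congrFun h ⟨i, hi⟩) ⟨j, hj⟩)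
    · rw [testBit_lane, testBit_lane, decide_eq_false hj]
      rfl

/-- A pair of mutually inverse matrices. -/
def okP (c : ℕ × ℕ) : Bool :=
  sameB (J4Rep.mul lanesMask c.1 c.2) J4Rep.one && sameB (J4Rep.mul lanesMask c.2 c.1) J4Rep.one

theorem okP_iff {c : ℕ × ℕ} : okP c = true ↔ val c.1 * val c.2 = 1 ∧ val c.2 * val c.1 = 1 := by
  simp only [okP, Bool.and_eq_true, sameB_iff, val_mul, J4Rep.val_one]

theorem exists_valP (c : ℕ × ℕ) : ∃ g : GL (Fin 112) (ZMod 2), okP c = true →
    ((g : GL (Fin 112) (ZMod 2)) : Mat112) = val c.2 ∧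
      ((g⁻¹ : GL (Fin 112) (ZMod 2)) : Mat112) = val c.1 := by
  by_cases h : val c.1 * val c.2 = 1 ∧ val c.2 * val c.1 = 1
  · exact ⟨⟨val c.2, val c.1, h.2, h.1⟩, fun _ => ⟨rfl, rfl⟩⟩
  · exact ⟨1, fun hc => absurd (okP_iff.1 hc) h⟩

/-- The group element of a pair: its matrix is the second code. -/
noncomputable def valP (c : ℕ × ℕ) : GL (Fin 112) (ZMod 2) := Classical.choose (exists_valP c)

theorem valP_val {c : ℕ × ℕ} (h : okP c = true) :
    ((valP c : GL (Fin 112) (ZMod 2)) : Mat112) = val c.2 ∧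
      (((valP c)⁻¹ : GL (Fin 112) (ZMod 2)) : Mat112) = val c.1 :=
  Classical.choose_spec (exists_valP c) h

/-- The product of two pairs. -/
def mulP (a b : ℕ × ℕ) : ℕ × ℕ := (J4Rep.mul lanesMask b.1 a.1, J4Rep.mul lanesMask a.2 b.2)

theorem okP_mul {a b : ℕ × ℕ} (ha : okP a = true) (hb : okP b = true) : okP (mulP a b) = true := by
  obtain ⟨a1, a2⟩ := okP_iff.1 ha
  obtain ⟨b1, b2⟩ := okP_iff.1 hb
  rw [okP_iff, mulP, val_mul, val_mul]
  refine ⟨?_, ?_⟩
  · rw [mul_assoc, ← mul_assoc (val a.1), a1, one_mul, b1]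
  · rw [mul_assoc, ← mul_assoc (val b.2), b2, one_mul, a2]

theorem okP_one : okP (J4Rep.one, J4Rep.one) = true := by
  rw [okP_iff, J4Rep.val_one, one_mul]; exact ⟨rfl, rfl⟩

/-- The representation. -/
noncomputable def rep : Rep (GL (Fin 112) (ZMod 2)) Row where
  C := ℕ × ℕ
  mul := mulP
  beq a b := Nat.beq a.1 b.1
  one := (J4Rep.one, J4Rep.one)
  ok := okP
  act a x := vm x a.1
  ptOk x := Nat.blt x (2 ^ 112)
  val := valP
  pt := pt
  ok_mul := okP_mul
  val_mul := fun {a b} ha hb => Units.ext (by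
    rw [(valP_val (okP_mul ha hb)).1, Units.val_mul, (valP_val ha).1, (valP_val hb).1, mulP, J4Rep.val_mul])
  beq_sound := fun {a b} ha hb h => inv_injective (Units.ext (by
    rw [(valP_val ha).2, (valP_val hb).2, Nat.eq_of_beq_eq_true h]))
  ok_one := okP_one
  val_one := Units.ext (by rw [(valP_val okP_one).1, J4Rep.val_one, Units.val_one])
  ptOk_act := fun {a x} _ _ => Nat.ble_eq_true_of_le (vm_lt x a.1 112)
  pt_act := fun {a x} ha _ => by rw [smul_eq, (valP_val ha).2, pt_vm]
  force := fun c k => forceNat c.1 fun a => k (a, c.2)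
  force_eq := fun c k => by rw [forceNat_eq]
  pt_inj := fun hx hy h => pt_injective (Nat.le_of_ble_eq_true hx) (Nat.le_of_ble_eq_true hy) h

end Cfsg.Agent.Lib.J4Cent62
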