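import Mathlib
import Cfsg.Prelude.Def_Transfer

/-!
A criterion for a group to be extraspecial at the prime two.
-/

set_option autoImplicit false
open scoped commutatorElement

namespace Cfsg.Agent.Lib.J4Cent62

theorem isExtraspecial_of {P : Type} [Group P] [Finite P] {n : ℕ} (hn : Nat.card P = 2 ^ n) {c : P}
    (hc1 : c ≠ 1) (hcc : ∀ y, y * c = c * y)
    (hcen : ∀ y : P, (∀ x, x * y = y * x) → y = 1 ∨ y = c)
    (hcomm : ∀ a b : P, a * b * a⁻¹ * b⁻¹ = 1 ∨ a * b * a⁻¹ * b⁻¹ = c)
    (hnc : ∃ a b : P, a * b ≠ b * a)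
    (hsep : ∀ y : P, y ≠ 1 → y ≠ c → ∃ φ : P →* Multiplicative (ZMod 2), φ y ≠ 1) :
    Cfsg.IsExtraspecial 2 P := by
  have hcinv : c⁻¹ = c := by
    have hc2 : c⁻¹ ∈ Subgroup.center P :=
      inv_mem (Subgroup.mem_center_iff.2 fun g => hcc g)
    rcases hcen c⁻¹ (fun x => Subgroup.mem_center_iff.1 hc2 x) with h | h
    · exact absurd (inv_eq_one.1 h) hc1
    · exact h
  have hc2 : c * c = 1 := by
    calc c * c = c * c⁻¹ := by rw [hcinv]
      _ = 1 := mul_inv_cancel c
  let Z : Subgroup P :=
    { carrier := {y | y = 1 ∨ y = c}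
      one_mem' := Or.inl rfl
      mul_mem' := by
        rintro a b (rfl | rfl) (rfl | rfl) <;> simp [hc2]
      inv_mem' := by
        rintro a (rfl | rfl)
        · exact Or.inl inv_one
        · exact Or.inr hcinv }
  have hcenZ : Subgroup.center P = Z := by
    ext y
    rw [Subgroup.mem_center_iff]
    refine ⟨fun h => hcen y h, ?_⟩
    rintro (rfl | rfl) x
    · simp
    · exact hcc x
  have hcomZ : commutator P = Z := by
    refine le_antisymm ?_ ?_
    · rw [commutator_def, Subgroup.commutator_le]
      exact fun a _ b _ => hcomm a b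
    · obtain ⟨a, b, hab⟩ := hnc
      have hmem : a * b * a⁻¹ * b⁻¹ ∈ commutator P := by
        rw [commutator_def]
        exact Subgroup.commutator_mem_commutator (Subgroup.mem_top a) (Subgroup.mem_top b)
      rcases hcomm a b with h | h
      · exfalso
        apply hab
        calc a * b = (a * b * a⁻¹ * b⁻¹) * (b * a) := by group
          _ = b * a := by rw [h, one_mul]
      · rw [h] at hmem
        rintro y (rfl | rfl)
        · exact one_mem _
        · exact hmem
  have hfra : frattini P = Z := by
    refine le_antisymm (fun y hy => ?_) ?_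
    · by_contra hyZ
      obtain ⟨φ, hφ⟩ := hsep y (fun h => hyZ (Or.inl h)) (fun h => hyZ (Or.inr h))
      have hco : IsCoatom φ.ker := by
        refine ⟨fun h => hφ ?_, fun K hK => ?_⟩
        · have : y ∈ φ.ker := h ▸ Subgroup.mem_top y
          exact this
        · obtain ⟨k, hk, hkn⟩ := SetLike.exists_of_lt hK
          rw [eq_top_iff]
          intro x _
          by_cases hx : φ x = 1
          · exact hK.le hx
          · have hkn' : φ k ≠ 1 := hkn
            have two : ∀ a b : Multiplicative (ZMod 2), a ≠ 1 → b ≠ 1 → a * b = 1 := by decide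
            have hxk : x * k ∈ φ.ker := by
              rw [MonoidHom.mem_ker, map_mul]; exact two _ _ hx hkn'
            have := mul_mem (hK.le hxk) (inv_mem hk)
            rwa [mul_inv_cancel_right] at this
      exact hφ (frattini_le_coatom hco hy)
    · refine le_iInf₂ fun K hK => ?_
      rintro y (rfl | rfl)
      · exact one_mem K
      · by_contra hcK
        have hKn : K.Normal := by
          have hP : IsPGroup 2 P := IsPGroup.of_card hn
          haveI : Fact (Nat.Prime 2) := ⟨Nat.prime_two⟩
          haveI := hP.isNilpotent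
          exact Subgroup.NormalizerCondition.normal_of_coatom K Group.normalizerCondition_of_isNilpotent hK
        -- `K` together with the central element is everything
        have htop : K ⊔ Subgroup.zpowers y = ⊤ := hK.2 _ (lt_of_le_of_ne le_sup_left fun h =>
          hcK (h ▸ (le_sup_right : Subgroup.zpowers y ≤ K ⊔ Subgroup.zpowers y)
            (Subgroup.mem_zpowers y)))
        have hle : commutator P ≤ K := by
          rw [commutator_def, Subgroup.commutator_le]
          intro a _ b _
          have ha : a ∈ K ⊔ Subgroup.zpowers y := htop ▸ Subgroup.mem_top a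
          have hb : b ∈ K ⊔ Subgroup.zpowers y := htop ▸ Subgroup.mem_top b
          rw [Subgroup.mem_sup_of_normal_left] at ha hb
          obtain ⟨k, hk, w, ⟨i, rfl⟩, rfl⟩ := ha
          obtain ⟨l, hl, w', ⟨j, rfl⟩, rfl⟩ := hb
          have hw : ∀ (i : ℤ) (g : P), g * y ^ i = y ^ i * g := fun i g =>
            ((show Commute g y from hcc g).zpow_right i).eq
          have e : ⁅k * y ^ i, l * y ^ j⁆ = ⁅k, l⁆ := by
            simp only [commutatorElement_def, mul_inv_rev]
            calc k * y ^ i * (l * y ^ j) * ((y ^ i)⁻¹ * k⁻¹) * ((y ^ j)⁻¹ * l⁻¹)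
                = k * l * (y ^ i * (y ^ j * (y ^ i)⁻¹)) * k⁻¹ * ((y ^ j)⁻¹ * l⁻¹) := by
                  rw [show k * y ^ i * (l * y ^ j) = k * (y ^ i * l) * y ^ j by group, ← hw i l]
                  group
              _ = k * l * (y ^ j * k⁻¹) * ((y ^ j)⁻¹ * l⁻¹) := by
                  rw [← hw i (y ^ j * (y ^ i)⁻¹)]; group
              _ = k * l * k⁻¹ * l⁻¹ := by rw [← hw j k⁻¹]; group
          rw [e, commutatorElement_def]
          exact mul_mem (mul_mem (mul_mem hk hl) (inv_mem hk)) (inv_mem hl)
        exact hcK (hle (hcomZ ▸ Or.inr rfl))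
  refine ⟨⟨IsPGroup.of_card hn, hfra.trans hcenZ.symm, hcomZ.trans hcenZ.symm⟩, ?_⟩
  rw [hcenZ]
  have e : Nat.card Z = Nat.card ({1, c} : Set P) :=
    Nat.card_congr (Equiv.setCongr (by ext y; rfl))
  rw [e, Nat.card_coe_set_eq, Set.ncard_pair hc1.symm]

end Cfsg.Agent.Lib.J4Cent62
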