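import Cfsg.Agent.Lib.J4Cent62.Assemble
import Cfsg.Agent.Lib.J4Cent62.Struct
import Cfsg.Prelude.Def_Sporadic

/-!
The structure of the involution centraliser, stated in the image of the representation.
-/

set_option autoImplicit false
set_option maxRecDepth 100000
set_option exponentiation.threshold 13000

namespace Cfsg.Agent.Lib.J4Cent62

open Cfsg.Agent.Lib.Computation
open scoped Matrix MatrixGroups

attribute [local irreducible] J4Rep.mul vm powCode evFirst sameB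

theorem center_gQ {y : GL112} (hy : y ∈ gQ) (hc : ∀ x ∈ gQ, x * y = y * x) : y = 1 ∨ y = vz := by
  let H : Subgroup GL112 := gQ ⊓ Subgroup.centralizer (gQ : Set GL112)
  have hz : vz ∈ H := ⟨vz_mem, Subgroup.mem_centralizer_iff.2 fun x hx =>
    zc_C0 (gM_le (gN_le (gQ_le hx)))⟩
  rcases irr H inf_le_left hz (fun c hcC n hn => ⟨normQ c hcC n hn.1,
    Subgroup.mem_centralizer_iff.2 fun x hx => by
      have hx' := normQ c⁻¹ (inv_mem hcC) x hx
      have := Subgroup.mem_centralizer_iff.1 hn.2 _ hx'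
      calc x * (c * n * c⁻¹) = c * (c⁻¹ * x * c⁻¹⁻¹ * n) * c⁻¹ := by group
        _ = c * (n * (c⁻¹ * x * c⁻¹⁻¹)) * c⁻¹ := by rw [this]
        _ = c * n * c⁻¹ * x := by group⟩) with h | h
  · exact h y ⟨hy, Subgroup.mem_centralizer_iff.2 hc⟩
  · exfalso
    obtain ⟨a, ha, b, hb, hab⟩ := noncomm
    have hb' : b ∈ H := h.symm ▸ hb
    exact hab (Subgroup.mem_centralizer_iff.1 hb'.2 a ha)

theorem exists_form_ne {y : GL112} (hy : y ∈ gQ) (h1 : y ≠ 1) (hz : y ≠ vz) :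
    ∃ c < 4096, c ≠ 0 ∧ RelZ vz y (qP c) := by
  obtain ⟨c, hc, hcy⟩ := exists_form hy
  refine ⟨c, hc, ?_, hcy⟩
  rintro rfl
  rw [qP_zero] at hcy
  rcases hcy with h | h
  · exact h1 h
  · exact hz (h.trans (one_mul _))

theorem sep {y : GL112} (hy : y ∈ gQ) (h1 : y ≠ 1) (hz : y ≠ vz) :
    ∃ φ : gQ →* Multiplicative (ZMod 2), φ ⟨y, hy⟩ ≠ 1 := by
  obtain ⟨c, hc, hc0, hcy⟩ := exists_form_ne hy h1 hz
  obtain ⟨i, hi⟩ := Nat.exists_testBit_of_ne_zero hc0
  choose F hF4 hF using fun x : gQ => exists_form x.2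
  have huniq : ∀ (x : gQ) (d : ℕ), d < 4096 → RelZ vz x.1 (qP d) → F x = d := fun x d hd h =>
    form_unique (hF4 x) hd (RelZ.trans (G := GL112) vz_sq (RelZ.symm (G := GL112) vz_sq (hF x)) h)
  let φ : gQ →* Multiplicative (ZMod 2) :=
    MonoidHom.mk' (fun x => Multiplicative.ofAdd (J4Rep.bit ((F x).testBit i))) fun a b => by
      rw [huniq (a * b) (F a ^^^ F b) (Nat.xor_lt_two_pow (n := 12) (hF4 a) (hF4 b))
        (relZ_mul (hF a) (hF b)), Nat.testBit_xor, J4Rep.bit_xor, ofAdd_add]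
  refine ⟨φ, ?_⟩
  show Multiplicative.ofAdd (J4Rep.bit ((F ⟨y, hy⟩).testBit i)) ≠ 1
  rw [huniq ⟨y, hy⟩ c hc hcy, hi]
  exact fun h => one_ne_zero (α := ZMod 2) h

/-- The group isomorphic to a subgroup pulled back along an injective homomorphism. -/
noncomputable def comapEquiv {A B : Type} [Group A] [Group B] (ι : A →* B)
    (hι : Function.Injective ι) (H : Subgroup B) (hH : H ≤ ι.range) : H.comap ι ≃* H :=
  MulEquiv.ofBijective (ι.subgroupComap H) ⟨fun a b h => Subtype.ext (hι (congrArg Subtype.val h)),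
    fun x => by
      obtain ⟨a, ha⟩ := hH x.2
      exact ⟨⟨a, show ι a ∈ H by rw [ha]; exact x.2⟩, Subtype.ext ha⟩⟩

theorem structure_abstract {Γ : Type} [Group Γ] {z0 : Γ} {R C0 M N Q : Subgroup Γ}
    (hfin : Finite R) (hR : Cfsg.IsJ4 R) (hz : orderOf z0 = 2)
    (hC : R ⊓ Subgroup.centralizer {z0} = C0) (hM : M ≤ C0) (hN : N ≤ M) (hQ : Q ≤ N)
    (hzQ : z0 ∈ Q) (card0 : Nat.card C0 = 21799895040) (cardM : Nat.card M = 10899947520)
    (cardN : Nat.card N = 24576) (cardQ : Nat.card Q = 8192)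
    (hnQ : ∀ c ∈ C0, ∀ x ∈ Q, c * x * c⁻¹ ∈ Q) (hnN : ∀ c ∈ C0, ∀ x ∈ N, c * x * c⁻¹ ∈ N)
    (hcenter : ∀ y, y ∈ Q → (∀ x ∈ Q, x * y = y * x) → y = 1 ∨ y = z0)
    (hcomm : ∀ a ∈ Q, ∀ b ∈ Q, a * b * a⁻¹ * b⁻¹ = 1 ∨ a * b * a⁻¹ * b⁻¹ = z0)
    (hnc : ∃ a ∈ Q, ∃ b ∈ Q, a * b ≠ b * a)
    (hsep : ∀ y (hy : y ∈ Q), y ≠ 1 → y ≠ z0 → ∃ φ : Q →* Multiplicative (ZMod 2), φ ⟨y, hy⟩ ≠ 1)
    (hsimp : ∀ H : Subgroup Γ, N ≤ H → H ≤ M → (∀ m ∈ M, ∀ h ∈ H, m * h * m⁻¹ ∈ H) →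
      H = N ∨ H = M) :
    ∃ (G : Type) (_ : Group G) (_ : Finite G), Cfsg.IsJ4 G ∧ ∃ z : G, orderOf z = 2 ∧
      ∃ (Q N M : Subgroup (Subgroup.centralizer ({z} : Set G))), Q.Normal ∧ N.Normal ∧ Q ≤ N ∧
        N ≤ M ∧ Nat.card Q = 2 ^ 13 ∧ Cfsg.IsExtraspecial 2 Q ∧ Nat.card N = 3 * 2 ^ 13 ∧
        M.index = 2 ∧ ∃ (_ : (N.subgroupOf M).Normal), Cfsg.IsM22 (M ⧸ N.subgroupOf M) := by
  have hz1 : z0 ≠ 1 := fun e => by rw [e, orderOf_one] at hz; norm_num at hz
  have hle : C0 ≤ R ⊓ Subgroup.centralizer {z0} := hC.ge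
  have hzc : ∀ c, c ∈ C0 → c * z0 = z0 * c := fun c hc =>
    (Subgroup.mem_centralizer_iff.1 (hle hc).2 z0 rfl).symm
  have hzR : z0 ∈ R := (hle (hM (hN (hQ hzQ)))).1
  let z : R := ⟨z0, hzR⟩
  refine ⟨R, inferInstance, hfin, hR, z, (Subgroup.orderOf_coe z).symm.trans hz, ?_⟩
  let ι : Subgroup.centralizer ({z} : Set R) →* Γ :=
    R.subtype.comp (Subgroup.subtype _)
  have hι : Function.Injective ι := fun a b e => Subtype.ext (Subtype.ext e)
  have hrange : ι.range = C0 := by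
    rw [← hC]
    ext g
    constructor
    · rintro ⟨a, rfl⟩
      refine ⟨a.1.2, Subgroup.mem_centralizer_iff.2 ?_⟩
      rintro w rfl
      exact congrArg Subtype.val (Subgroup.mem_centralizer_iff.1 a.2 z rfl)
    · rintro ⟨hg, hc⟩
      refine ⟨⟨⟨g, hg⟩, Subgroup.mem_centralizer_iff.2 ?_⟩, rfl⟩
      rintro w rfl
      exact Subtype.ext (Subgroup.mem_centralizer_iff.1 hc z0 rfl)
  have hMC : M ≤ ι.range := hrange.symm ▸ hM
  have hNC : N ≤ ι.range := hN.trans hMC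
  have hQC : Q ≤ ι.range := hQ.trans hNC
  have hmem : ∀ a, ι a ∈ C0 := fun a => by
    rw [← hrange]; exact ⟨a, rfl⟩
  have hnorm : ∀ H : Subgroup Γ, (∀ c ∈ C0, ∀ x ∈ H, c * x * c⁻¹ ∈ H) →
      (H.comap ι).Normal := fun H hH => ⟨fun x hx a => by
    show ι (a * x * a⁻¹) ∈ H
    rw [map_mul, map_mul, map_inv]
    exact hH _ (hmem a) _ hx⟩
  have hcard : ∀ H : Subgroup Γ, H ≤ ι.range → Nat.card (H.comap ι) = Nat.card H := fun H hH =>
    Nat.card_congr (comapEquiv ι hι H hH).toEquiv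
  refine ⟨Q.comap ι, N.comap ι, M.comap ι, hnorm _ hnQ, hnorm _ hnN,
    Subgroup.comap_mono hQ, Subgroup.comap_mono hN, ?_, ?_, ?_, ?_, ?_⟩
  · rw [hcard _ hQC, cardQ]; norm_num
  · haveI : Finite (Q.comap ι) :=
      Nat.finite_of_card_ne_zero (by rw [hcard _ hQC, cardQ]; norm_num)
    have hval : ∀ {a b : Q.comap ι}, ι a.1 = ι b.1 → a = b := fun e => Subtype.ext (hι e)
    obtain ⟨c, hc⟩ := hQC hzQ
    refine isExtraspecial_of (n := 13) (by rw [hcard _ hQC, cardQ]; norm_num)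
      (c := ⟨c, show ι c ∈ Q by rw [hc]; exact hzQ⟩) (fun e => hz1 ?_) (fun y => hval ?_)
      (fun y hy => ?_) (fun a b => ?_) ?_ (fun y hy1 hyz => ?_)
    · rw [← hc, show c = 1 from congrArg Subtype.val e, map_one]
    · show ι (y.1 * c) = ι (c * y.1)
      rw [map_mul, map_mul, hc]
      exact hzc _ (hmem _)
    · have hy' : ∀ x ∈ Q, x * ι y.1 = ι y.1 * x := fun x hx => by
        obtain ⟨a, rfl⟩ := hQC hx
        have := congrArg (fun t : Q.comap ι => ι t.1) (hy ⟨a, hx⟩)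
        simpa only [Subgroup.coe_mul, map_mul] using this
      rcases hcenter _ y.2 hy' with e | e
      · exact Or.inl (hval (e.trans (map_one ι).symm))
      · exact Or.inr (hval (e.trans hc.symm))
    · rcases hcomm _ a.2 _ b.2 with e | e
      · refine Or.inl (hval ?_)
        show ι (a.1 * b.1 * a.1⁻¹ * b.1⁻¹) = ι 1
        rw [map_mul, map_mul, map_mul, map_inv, map_inv, e, map_one]
      · refine Or.inr (hval ?_)
        show ι (a.1 * b.1 * a.1⁻¹ * b.1⁻¹) = ι c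
        rw [map_mul, map_mul, map_mul, map_inv, map_inv, e, hc]
    · obtain ⟨a, ha, b, hb, hab⟩ := hnc
      obtain ⟨a', rfl⟩ := hQC ha
      obtain ⟨b', rfl⟩ := hQC hb
      refine ⟨⟨a', ha⟩, ⟨b', hb⟩, fun e => hab ?_⟩
      rw [← map_mul, ← map_mul]
      exact congrArg (fun t : Q.comap ι => ι t.1) e
    · obtain ⟨φ, hφ⟩ := hsep (ι y.1) y.2
        (fun e => hy1 (hval (e.trans (map_one ι).symm))) (fun e => hyz (hval (e.trans hc.symm)))
      exact ⟨φ.comp (ι.subgroupComap Q), hφ⟩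
  · rw [hcard _ hNC, cardN]; norm_num
  · have h1 := (M.comap ι).card_mul_index
    have hC : Nat.card (Subgroup.centralizer ({z} : Set R)) = 21799895040 := by
      rw [Nat.card_congr (MonoidHom.ofInjective hι).toEquiv, hrange, card0]
    rw [hcard _ hMC, cardM, hC] at h1
    omega
  · haveI hNn : (N.comap ι).Normal := hnorm _ hnN
    refine ⟨inferInstance, ?_⟩
    have hMfin : Finite (M.comap ι) :=
      Nat.finite_of_card_ne_zero (by rw [hcard _ hMC, cardM]; norm_num)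
    let L : Subgroup (M.comap ι) := (N.comap ι).subgroupOf (M.comap ι)
    have hL : Nat.card L = 24576 := by
      rw [Nat.card_congr (Subgroup.subgroupOfEquivOfLe (Subgroup.comap_mono hN)).toEquiv,
        hcard _ hNC, cardN]
    have hq : Nat.card (M.comap ι ⧸ L) = 443520 := by
      have h1 := L.card_mul_index
      rw [hL, hcard _ hMC, cardM] at h1
      show L.index = 443520
      omega
    refine ⟨?_, hq⟩
    haveI : Nontrivial (M.comap ι ⧸ L) := by
      rw [← Finite.one_lt_card_iff_nontrivial, hq]; norm_num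
    refine ⟨fun K hK => ?_⟩
    let K' : Subgroup (M.comap ι) := K.comap (QuotientGroup.mk' L)
    have hK' : K'.Normal := hK.comap _
    let f : M.comap ι →* Γ := ι.comp (M.comap ι).subtype
    have hf : Function.Injective f := fun a b e => Subtype.ext (hι e)
    have hLK : L ≤ K' := fun x hx => by
      show QuotientGroup.mk' L x ∈ K
      rw [show QuotientGroup.mk' L x = 1 from (QuotientGroup.eq_one_iff x).2 hx]
      exact one_mem K
    have hLf : L.map f = N := by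
      ext g
      constructor
      · rintro ⟨x, hx, rfl⟩; exact hx
      · intro hg
        obtain ⟨a, rfl⟩ := hNC hg
        exact ⟨⟨a, hN hg⟩, hg, rfl⟩
    rcases hsimp (K'.map f) (hLf ▸ Subgroup.map_mono hLK)
      (by rintro _ ⟨x, -, rfl⟩; exact x.2)
      (by
        rintro m hm _ ⟨x, hx, rfl⟩
        obtain ⟨a, rfl⟩ := hMC hm
        exact ⟨⟨a, hm⟩ * x * ⟨a, hm⟩⁻¹, hK'.conj_mem x hx _, by
          show f _ = ι a * f x * (ι a)⁻¹
          rw [map_mul, map_mul, map_inv]; rfl⟩) with e | e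
    · left
      rw [← hLf] at e
      have e' : K' = L := Subgroup.map_injective hf e
      rw [Subgroup.eq_bot_iff_forall]
      intro x hx
      obtain ⟨a, rfl⟩ := QuotientGroup.mk'_surjective L x
      exact (QuotientGroup.eq_one_iff a).2 (e' ▸ hx)
    · right
      rw [eq_top_iff]
      intro x _
      obtain ⟨a, rfl⟩ := QuotientGroup.mk'_surjective L x
      have : f a ∈ K'.map f := by rw [e]; exact a.2
      obtain ⟨b, hb, hba⟩ := this
      rwa [hf hba] at hb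


theorem simple_range {A B : Type} [Group A] [Group B] [IsSimpleGroup A] (f : A →* B)
    (hf : Function.Injective f) : IsSimpleGroup f.range :=
  (MonoidHom.ofInjective hf).symm.isSimpleGroup

theorem order_vz : orderOf (vz : GL112) = 2 :=
  orderOf_eq_prime (G := GL112) ((pow_two _).trans vz_sq) vz_ne

theorem structure_of_J4 (h : Cfsg.IsJ4 Cfsg.Spor.J4) :
    ∃ (G : Type) (_ : Group G) (_ : Finite G), Cfsg.IsJ4 G ∧ ∃ z : G, orderOf z = 2 ∧
      ∃ (Q N M : Subgroup (Subgroup.centralizer ({z} : Set G))), Q.Normal ∧ N.Normal ∧ Q ≤ N ∧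
        N ≤ M ∧ Nat.card Q = 2 ^ 13 ∧ Cfsg.IsExtraspecial 2 Q ∧ Nat.card N = 3 * 2 ^ 13 ∧
        M.index = 2 ∧ ∃ (_ : (N.subgroupOf M).Normal), Cfsg.IsM22 (M ⧸ N.subgroupOf M) :=
  @structure_abstract GL112 _ vz hom.range gC0 gM gN gQ (finite_range h)
    ⟨@simple_range Cfsg.Spor.J4 GL112 _ _ h.1 hom (hom_injective h), card_range h⟩
    order_vz (gC_eq h) gM_le gN_le gQ_le vz_mem card_C0 card_gM card_gN card_gQ normQ normN
    (fun _ hy => center_gQ hy) qcomm noncomm (fun _ hy => sep hy) simp_MN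

end Cfsg.Agent.Lib.J4Cent62
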