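import Mathlib

/-!
General facts for the proof that an involution centraliser is as small as possible.
-/

set_option autoImplicit false

namespace Cfsg.Agent.Lib.J4Cent62

/-- An element of order dividing seven normalising a small subgroup of order a power of eleven
centralises it. -/
theorem comm_of_seven {G : Type*} [Group G] {s : G} (hs : s ^ 7 = 1) {P : Subgroup G} [Finite P]
    {i : ℕ} (hi : i ≤ 2) (hP : Nat.card P = 11 ^ i) (hn : ∀ p ∈ P, s * p * s⁻¹ ∈ P)
    {p : G} (hp : p ∈ P) : s * p = p * s := by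
  haveI : Fact (Nat.Prime 7) := ⟨by norm_num⟩
  have hnk : ∀ (k : ℕ), ∀ q ∈ P, s ^ k * q * (s ^ k)⁻¹ ∈ P := by
    intro k
    induction k with
    | zero => intro q hq; simpa using hq
    | succ k ih =>
      intro q hq
      have := hn _ (ih q hq)
      rwa [pow_succ', mul_inv_rev, show s * s ^ k * q * ((s ^ k)⁻¹ * s⁻¹) =
        s * (s ^ k * q * (s ^ k)⁻¹) * s⁻¹ by group]
  let H : Subgroup G := Subgroup.zpowers s
  have hfin : IsOfFinOrder s := isOfFinOrder_iff_pow_eq_one.2 ⟨7, by norm_num, hs⟩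
  have hmem : ∀ h ∈ H, ∀ q ∈ P, h * q * h⁻¹ ∈ P := by
    intro h hh q hq
    obtain ⟨k, rfl⟩ := hfin.mem_powers_iff_mem_zpowers.2 hh
    exact hnk k q hq
  letI : MulAction H P :=
    { smul := fun h q => ⟨h.1 * q.1 * h.1⁻¹, hmem h.1 h.2 q.1 q.2⟩
      one_smul := fun q => Subtype.ext (by show (1 : G) * q.1 * 1⁻¹ = q.1; simp)
      mul_smul := fun a b q => Subtype.ext (by
        show (a.1 * b.1) * q.1 * (a.1 * b.1)⁻¹ = a.1 * (b.1 * q.1 * b.1⁻¹) * a.1⁻¹
        group) }
  haveI : Finite H := hfin.finite_zpowers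
  have hH : IsPGroup 7 H := by
    intro g
    obtain ⟨k, hk⟩ := g.2
    refine ⟨1, Subtype.ext ?_⟩
    rw [SubmonoidClass.coe_pow, pow_one, ← hk]
    show (s ^ k) ^ 7 = 1
    rw [← zpow_natCast, ← zpow_mul, mul_comm, zpow_mul, zpow_natCast, hs, one_zpow]
  let F : Subgroup G := P ⊓ Subgroup.centralizer {s}
  haveI : Finite F := Finite.of_injective (fun x : F => (⟨x.1, x.2.1⟩ : P))
    fun a b h => Subtype.ext (congrArg (fun y : P => y.1) h)
  have hcardF : Nat.card F = Nat.card (MulAction.fixedPoints H P) := by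
    refine Nat.card_congr
      { toFun := fun x => ⟨⟨x.1, x.2.1⟩, ?_⟩
        invFun := fun x => ⟨x.1.1, x.1.2, ?_⟩
        left_inv := fun x => rfl
        right_inv := fun x => rfl }
    · rintro ⟨h, hh⟩
      apply Subtype.ext
      show h * x.1 * h⁻¹ = x.1
      have hc : s * x.1 = x.1 * s := Subgroup.mem_centralizer_iff.1 x.2.2 s rfl
      obtain ⟨k, rfl⟩ := hh
      show s ^ k * x.1 * (s ^ k)⁻¹ = x.1
      rw [(show Commute s x.1 from hc).zpow_left k |>.eq, mul_inv_cancel_right]
    · show x.1.1 ∈ Subgroup.centralizer _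
      rw [Subgroup.mem_centralizer_iff]
      rintro y rfl
      have := congrArg (fun q : P => q.1) (x.2 ⟨y, Subgroup.mem_zpowers y⟩)
      have h2 : y * x.1.1 * y⁻¹ = x.1.1 := this
      calc y * x.1.1 = y * x.1.1 * y⁻¹ * y := by group
        _ = _ := by rw [h2]
  obtain ⟨j, hj, hF⟩ := (Nat.dvd_prime_pow (by norm_num : Nat.Prime 11)).1
    (hP ▸ Subgroup.card_dvd_of_le (inf_le_left : F ≤ P))
  have hmod := hH.card_modEq_card_fixedPoints (α := P)
  rw [← hcardF, hP, hF] at hmod
  have hij : j = i := by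
    interval_cases i <;> interval_cases j <;> simp_all [Nat.ModEq]
  have hFP : F = P := Subgroup.eq_of_le_of_card_ge inf_le_left (by rw [hF, hP, hij])
  have hpF : p ∈ F := hFP ▸ hp
  exact Subgroup.mem_centralizer_iff.1 hpF.2 s rfl

section Vec

variable {Γ V : Type*} [Group Γ] [AddCommGroup V] [Finite V] [DistribMulAction Γ V]

omit [Finite V] in
theorem odd_nsmul_eq (two : ∀ v : V, v + v = 0) {n : ℕ} (hn : Odd n) (v : V) : n • v = v := by
  obtain ⟨k, rfl⟩ := hn
  rw [add_smul, one_smul, mul_comm, mul_smul, two_nsmul v, two, smul_zero, zero_add]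

/-- The sum over the powers of `x`. -/
def orbSum (x : Γ) (n : ℕ) (v : V) : V := ∑ i ∈ Finset.range n, x ^ i • v

omit [Finite V] in
theorem smul_orbSum {x : Γ} {n : ℕ} (hx : x ^ n = 1) (v : V) :
    x • orbSum x n v = orbSum x n v := by
  have h1 := Finset.sum_range_succ (fun i => x ^ i • v) n
  have h2 := Finset.sum_range_succ' (fun i => x ^ i • v) n
  rw [h1, hx, pow_zero] at h2
  have h3 := add_right_cancel h2
  rw [orbSum, Finset.smul_sum]
  refine Eq.trans ?_ h3.symm
  exact Finset.sum_congr rfl fun i _ => by rw [pow_succ', mul_smul]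

omit [Finite V] in
theorem pow_smul_fix {x : Γ} {v : V} (h : x • v = v) : ∀ i : ℕ, x ^ i • v = v
  | 0 => by rw [pow_zero, one_smul]
  | i + 1 => by rw [pow_succ', mul_smul, pow_smul_fix h i, h]

omit [Finite V] in
theorem orbSum_fix (two : ∀ v : V, v + v = 0) {x : Γ} {n : ℕ} (hn : Odd n) {v : V}
    (h : x • v = v) : orbSum x n v = v := by
  rw [orbSum, Finset.sum_congr rfl fun i _ => pow_smul_fix h i, Finset.sum_const,
    Finset.card_range, odd_nsmul_eq two hn]

/-- An element of odd order commuting with a two group and fixing all its fixed vectors acts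
trivially. -/
theorem fix_all_of_fix (two : ∀ v : V, v + v = 0) {Q : Subgroup Γ} [Finite Q] (hQ : IsPGroup 2 Q)
    {x : Γ} {n : ℕ} (hn : Odd n) (hx : x ^ n = 1) (hc : ∀ q ∈ Q, q * x = x * q)
    (hS : ∀ v : V, (∀ q ∈ Q, q • v = v) → x • v = v) (v : V) : x • v = v := by
  haveI : Fact (Nat.Prime 2) := ⟨Nat.prime_two⟩
  let D : AddSubgroup V :=
    { carrier := {w | orbSum x n w = 0}
      zero_mem' := by simp [orbSum]
      add_mem' := fun {a b} ha hb => by
        show orbSum x n (a + b) = 0
        simp only [Set.mem_setOf_eq, orbSum] at ha hb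
        simp only [orbSum, smul_add, Finset.sum_add_distrib, ha, hb, add_zero]
      neg_mem' := fun {a} ha => by
        show orbSum x n (-a) = 0
        simp only [Set.mem_setOf_eq, orbSum] at ha
        simp only [orbSum, smul_neg, Finset.sum_neg_distrib, ha, neg_zero] }
  have hinv : ∀ q ∈ Q, ∀ w ∈ D, q • w ∈ D := by
    intro q hq w hw
    show orbSum x n (q • w) = 0
    have e : orbSum x n (q • w) = q • orbSum x n w := by
      rw [orbSum, orbSum, Finset.smul_sum]
      refine Finset.sum_congr rfl fun i _ => ?_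
      rw [← mul_smul, ← mul_smul, ((show Commute q x from hc q hq).pow_right i).eq]
    rw [e, show orbSum x n w = 0 from hw, smul_zero]
  letI : MulAction Q D :=
    { smul := fun q w => ⟨q.1 • w.1, hinv q.1 q.2 w.1 w.2⟩
      one_smul := fun w => Subtype.ext (one_smul Γ w.1)
      mul_smul := fun a b w => Subtype.ext (mul_smul a.1 b.1 w.1) }
  have hD : ∀ w ∈ D, w = 0 := by
    by_contra hne
    push Not at hne
    obtain ⟨w, hw, hw0⟩ := hne
    have h2 : 2 ∣ Nat.card D := by
      have ho : addOrderOf (⟨w, hw⟩ : D) = 2 :=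
        addOrderOf_eq_prime (Subtype.ext (by rw [AddSubgroupClass.coe_nsmul, two_nsmul, two]; rfl))
          (fun h => hw0 (congrArg (fun y : D => y.1) h))
      exact ho ▸ addOrderOf_dvd_natCard _
    have h0 : (0 : D) ∈ MulAction.fixedPoints Q D := fun q => Subtype.ext (smul_zero q.1)
    obtain ⟨b, hb, hb0⟩ := hQ.exists_fixed_point_of_prime_dvd_card_of_fixed_point D h2 h0
    have hfix : ∀ q ∈ Q, q • b.1 = b.1 := fun q hq => congrArg (fun y : D => y.1) (hb ⟨q, hq⟩)
    apply hb0
    apply Subtype.ext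
    show (0 : V) = b.1
    rw [← orbSum_fix two hn (hS _ hfix)]
    exact b.2.symm
  have hw : v + orbSum x n v ∈ D := by
    show orbSum x n (v + orbSum x n v) = 0
    rw [orbSum, Finset.sum_congr rfl fun i _ => smul_add (x ^ i) v (orbSum x n v),
      Finset.sum_add_distrib,
      Finset.sum_congr rfl fun i _ => pow_smul_fix (smul_orbSum hx v) i, Finset.sum_const,
      Finset.card_range, odd_nsmul_eq two hn]
    exact two _
  have hv : orbSum x n v = v := by
    calc orbSum x n v = v + v + orbSum x n v := by rw [two, zero_add]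
      _ = v + (v + orbSum x n v) := by rw [add_assoc]
      _ = v := by rw [hD _ hw, add_zero]
  rw [← hv]
  exact smul_orbSum hx v

end Vec

/-- The product formula as a divisibility. -/
theorem card_mul_card_dvd {G : Type*} [Group G] [Finite G] (K H : Subgroup G) [K.Normal] :
    Nat.card K * Nat.card H ∣ Nat.card G * Nat.card ↥(K ⊓ H) := by
  let f : H →* G ⧸ K := (QuotientGroup.mk' K).comp H.subtype
  have hker : Nat.card f.ker = Nat.card ↥(K ⊓ H) := by
    refine Nat.card_congr
      { toFun := fun x => ⟨x.1.1, (QuotientGroup.eq_one_iff _).1 x.2, x.1.2⟩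
        invFun := fun x => ⟨⟨x.1, x.2.2⟩, (QuotientGroup.eq_one_iff _).2 x.2.1⟩
        left_inv := fun x => rfl
        right_inv := fun x => rfl }
  have h1 : Nat.card H = Nat.card f.range * Nat.card f.ker := by
    rw [Subgroup.card_eq_card_quotient_mul_card_subgroup f.ker,
      Nat.card_congr (QuotientGroup.quotientKerEquivRange f).toEquiv]
  rw [h1, hker, Subgroup.card_eq_card_quotient_mul_card_subgroup K (α := G)]
  obtain ⟨c, hc⟩ := Subgroup.card_subgroup_dvd_card f.range
  exact ⟨c, by rw [hc]; ring⟩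

/-- The normal Sylow subgroup of a group whose index at `11` is small. -/
theorem exists_char_sylow {G : Type*} [Group G] [Finite G] {a i : ℕ} (ha : a = 2 ∨ a = 3)
    (hG : Nat.card G = a * 11 ^ i) :
    ∃ P : Subgroup G, P.Characteristic ∧ Nat.card P = 11 ^ i ∧ ∀ x : G, x ^ 11 = 1 → x ∈ P := by
  haveI : Fact (Nat.Prime 11) := ⟨by norm_num⟩
  obtain ⟨S⟩ : Nonempty (Sylow 11 G) := inferInstance
  have hS : Nat.card (S : Subgroup G) = 11 ^ i := by
    rw [S.card_eq_multiplicity, hG]
    congr 1
    have hnd : ¬ 11 ∣ a := by rcases ha with rfl | rfl <;> norm_num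
    rw [Nat.factorization_mul (by rcases ha with rfl | rfl <;> norm_num) (by positivity)]
    simp [Nat.factorization_eq_zero_of_not_dvd hnd, Nat.Prime.factorization_self (by norm_num : Nat.Prime 11)]
  have hidx : (S : Subgroup G).index = a := by
    have := (S : Subgroup G).card_mul_index
    rw [hS, hG, mul_comm a] at this
    exact Nat.eq_of_mul_eq_mul_left (by positivity) this
  have h1 : Nat.card (Sylow 11 G) = 1 := by
    have hd := S.card_dvd_index
    rw [hidx] at hd
    have hm := card_sylow_modEq_one 11 G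
    have hle : Nat.card (Sylow 11 G) ≤ a := Nat.le_of_dvd (by rcases ha with rfl | rfl <;> norm_num) hd
    have : Nat.card (Sylow 11 G) < 11 := by rcases ha with rfl | rfl <;> omega
    rwa [Nat.ModEq, Nat.mod_eq_of_lt this] at hm
  haveI : Subsingleton (Sylow 11 G) := (Nat.card_eq_one_iff_unique.1 h1).1
  refine ⟨S, S.characteristic_of_subsingleton, hS, fun x hx => ?_⟩
  have hp : IsPGroup 11 (Subgroup.zpowers x) := by
    intro g
    obtain ⟨k, hk⟩ := g.2
    refine ⟨1, Subtype.ext ?_⟩
    rw [SubmonoidClass.coe_pow, pow_one, ← hk]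
    show (x ^ k) ^ 11 = 1
    rw [← zpow_natCast, ← zpow_mul, mul_comm, zpow_mul, zpow_natCast, hx, one_zpow]
  obtain ⟨T, hT⟩ := hp.exists_le_sylow
  rw [Subsingleton.elim T S] at hT
  exact hT (Subgroup.mem_zpowers x)

end Cfsg.Agent.Lib.J4Cent62
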